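import Cfsg.Agent.QuadFix.Fixed
import Cfsg.Agent.ZJ.ConjModule
import Cfsg.Agent.ZJ.PStable
import Cfsg.Agent.Solvable.CoprimeAct

/-!
Quadratic elements of a normal subgroup whose fixed points under a coprime group of operators do not
involve `PSL₂(p)` centralise the chief factors below a normal p-subgroup.
-/

set_option autoImplicit false
set_option linter.unusedSectionVars false
set_option linter.deprecated false
set_option linter.style.haveILetI false
set_option linter.unusedSimpArgs false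

namespace CfsgLib.QuadFix

open Subgroup

universe u w

theorem solvable_or_of_coprime {X : Type u} [Group X] [Finite X] {A K : Subgroup X}
    (hcop : (Nat.card A).Coprime (Nat.card K)) : Group.IsSolvable A ∨ Group.IsSolvable K := by
  rcases Nat.even_or_odd (Nat.card A) with h | h
  · refine Or.inr (CfsgLib.OddEnd.odd_solvable _ ?_)
    rw [← Nat.not_even_iff_odd]
    intro h'
    have := Nat.dvd_gcd h.two_dvd h'.two_dvd
    rw [hcop.gcd_eq_one] at this
    omega
  · exact Or.inl (CfsgLib.OddEnd.odd_solvable _ h)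

/-- Fixed points in an image of a coprime action are images of fixed points. -/
theorem fixed_map_le {X Z : Type*} [Group X] [Finite X] [Group Z] (f : X →* Z) {A K : Subgroup X}
    (hA : A ≤ normalizer (K : Set X)) (hcop : (Nat.card A).Coprime (Nat.card K)) :
    K.map f ⊓ centralizer (A.map f : Set Z) ≤ (K ⊓ centralizer (A : Set X)).map f := by
  rintro _ ⟨⟨k, hk, rfl⟩, hc⟩
  replace hk : k ∈ K := hk
  have hNA : A ≤ normalizer ((K ⊓ f.ker : Subgroup X) : Set X) := fun a ha => by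
    rw [mem_normalizer_iff]
    intro x
    exact and_congr (mem_normalizer_iff.1 (hA ha) x) ⟨fun h => f.normal_ker.conj_mem x h a, fun h => by
      have := f.normal_ker.conj_mem _ h a⁻¹
      simpa [mul_assoc] using this⟩
  obtain ⟨c, hc', hkc⟩ := CfsgLib.CoprimeAct.exists_centralizing_mem_coset hA hcop inf_le_left hNA
    ((solvable_or_of_coprime hcop).imp id fun h => by
      haveI := h
      exact Group.isSolvable_of_isSolvable_injective
        (f := inclusion (inf_le_left : K ⊓ f.ker ≤ K)) (inclusion_injective _))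
    hk (fun a ha => by
      refine ⟨K.mul_mem (K.inv_mem hk) ((mem_normalizer_iff.1 (hA ha) k).1 hk), ?_⟩
      have h := mem_centralizer_iff.1 hc (f a) ⟨a, ha, rfl⟩
      show f (k⁻¹ * (a * k * a⁻¹)) = 1
      rw [map_mul, map_mul, map_mul, map_inv, map_inv, h, mul_inv_cancel_right, inv_mul_cancel])
  refine ⟨c, hc', ?_⟩
  have h1 : f (k⁻¹ * c) = 1 := hkc.2
  rw [map_mul, map_inv, inv_mul_eq_one] at h1
  exact h1.symm

/-- Involvement in a subgroup of the image of `H` gives involvement in `H`. -/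
theorem involves_of_le_map {X Z W : Type*} [Group X] [Group Z] [Group W] (f : X →* Z) {H : Subgroup X}
    {C : Subgroup Z} (hC : C ≤ H.map f) (h : Cfsg.Involves W C) : Cfsg.Involves W H := by
  let g : H →* Z := f.comp H.subtype
  refine CfsgLib.ZJ.involves_of_hom (C.comap g) (g.subgroupComap C) (fun y => ?_) h
  obtain ⟨x, hx, he⟩ := hC y.2
  exact ⟨⟨⟨x, hx⟩, show f x ∈ C by rw [he]; exact y.2⟩, Subtype.ext he⟩

variable {X : Type u} [Group X] [Finite X] {p : ℕ} [Fact p.Prime] {F : Type w} [Field F] [Fintype F]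

theorem mem_centralizer_of_minimal (hp5 : 5 ≤ p) (hF : Fintype.card F = p) (Gn A : Subgroup X) [Gn.Normal]
    (hcop : (Nat.card A).Coprime (Nat.card Gn))
    (hfix : ¬ Cfsg.Involves (Matrix.ProjectiveSpecialLinearGroup (Fin 2) F) ↥(Gn ⊓ centralizer (A : Set X)))
    {V : Subgroup X} [hVn : V.Normal] (hV : Cfsg.IsElementaryAbelian p V) (hV1 : V ≠ ⊥)
    (hmin : ∀ K : Subgroup X, K.Normal → K ≤ V → K = ⊥ ∨ K = V) {a : X} (ha : a ∈ Gn)
    (hq : ⁅⁅V, zpowers a⁆, zpowers a⁆ = ⊥) : a ∈ centralizer (V : Set X) := by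
  classical
  have hall : ∀ x : X, x ∈ normalizer (V : Set X) := fun x => by rw [normalizer_eq_top (H := V)]; exact mem_top x
  let ι : X →* normalizer (V : Set X) := (MonoidHom.id X).codRestrict _ hall
  let ρ : X →* LinearMap.GeneralLinearGroup (ZMod p) (CfsgLib.ZJ.ElabMod V hV) :=
    ((CfsgLib.ZJ.conjEnd hV).comp ι).toHomUnits
  have hρ : ∀ x, (ρ x : Module.End (ZMod p) (CfsgLib.ZJ.ElabMod V hV)) = CfsgLib.ZJ.conjEnd hV ⟨x, hall x⟩ :=
    fun x => rfl
  have : FiniteDimensional (ZMod p) (CfsgLib.ZJ.ElabMod V hV) := Module.Finite.of_finite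
  by_contra hna
  apply hfix
  have hN : CfsgLib.QP.IsRoot (Gn.map ρ) ((ρ a : Module.End (ZMod p) (CfsgLib.ZJ.ElabMod V hV)) - 1) := by
    have hsq : ((ρ a : Module.End (ZMod p) (CfsgLib.ZJ.ElabMod V hV)) - 1) *
        ((ρ a : Module.End (ZMod p) (CfsgLib.ZJ.ElabMod V hV)) - 1) = 0 :=
      CfsgLib.ZJ.conjEnd_quadratic hV ⟨a, hall a⟩ hq
    refine ⟨hsq, fun e => hna ((CfsgLib.ZJ.conjEnd_eq_one_iff hV ⟨a, hall a⟩).1 (sub_eq_zero.1 e)), fun c => ?_⟩
    refine ⟨ρ a ^ c.val, ⟨a ^ c.val, pow_mem ha _, map_pow ρ a _⟩, ?_⟩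
    rw [Units.val_pow_eq_pow_val]
    generalize hu : (ρ a : Module.End (ZMod p) (CfsgLib.ZJ.ElabMod V hV)) = u at hsq ⊢
    have key : ∀ n : ℕ, u ^ n = 1 + n • (u - 1) := by
      intro n
      induction n with
      | zero => simp
      | succ n ih =>
        calc u ^ (n + 1) = (1 + n • (u - 1)) * (1 + (u - 1)) := by rw [pow_succ, ih, add_sub_cancel]
          _ = 1 + (n + 1) • (u - 1) := by
            rw [mul_add, add_mul, add_mul, one_mul, one_mul, mul_one, smul_mul_assoc, hsq, smul_zero,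
              add_zero, succ_nsmul, add_assoc]
    rw [key, ← Nat.cast_smul_eq_nsmul (ZMod p), ZMod.natCast_zmod_val]
  have hirr : Cfsg.IsIrreducibleFor ρ.range := by
    refine ⟨?_, fun W hW => ?_⟩
    · obtain ⟨v, hv, hv1⟩ := V.bot_or_exists_ne_one.resolve_left hV1
      exact ⟨CfsgLib.ZJ.toVec hV ⟨v, hv⟩, fun e => hv1 (congrArg Subtype.val (congrArg (CfsgLib.ZJ.ofVec hV) e))⟩
    · let Ws : Subgroup X :=
        { carrier := {x | ∃ hx : x ∈ V, CfsgLib.ZJ.toVec hV ⟨x, hx⟩ ∈ W}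
          one_mem' := ⟨one_mem V, W.zero_mem⟩
          mul_mem' := fun {x y} ⟨hx, hxW⟩ ⟨hy, hyW⟩ => ⟨mul_mem hx hy, W.add_mem hxW hyW⟩
          inv_mem' := fun {x} ⟨hx, hxW⟩ => ⟨inv_mem hx, W.neg_mem hxW⟩ }
      have hWn : Ws.Normal := ⟨by
        rintro x ⟨hx, hxW⟩ g
        exact ⟨hVn.conj_mem x hx g, hW (ρ g) ⟨g, rfl⟩ _ hxW⟩⟩
      rcases hmin Ws hWn (fun x hx => hx.1) with h | h
      · refine Or.inl ((Submodule.eq_bot_iff W).2 fun m hm => ?_)
        apply CfsgLib.ZJ.ofVec_injective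
        apply Subtype.ext
        have hmem : ((CfsgLib.ZJ.ofVec hV m : V) : X) ∈ Ws := ⟨(CfsgLib.ZJ.ofVec hV m).2, hm⟩
        rw [h, mem_bot] at hmem
        exact hmem
      · refine Or.inr (eq_top_iff.2 fun m _ => ?_)
        obtain ⟨hx, hxW⟩ : ((CfsgLib.ZJ.ofVec hV m : V) : X) ∈ Ws := h.symm ▸ (CfsgLib.ZJ.ofVec hV m).2
        exact hxW
  have hnorm : ∀ x : X, Cfsg.conjBy (Gn.map ρ) (ρ x) = Gn.map ρ := fun x =>
    CfsgLib.RankOne.conjBy_eq_self_iff.2 (le_normalizer_map ρ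
      ⟨x, by rw [SetLike.mem_coe, normalizer_eq_top (H := Gn)]; exact mem_top x, rfl⟩)
  have hrad : CfsgLib.QP.RadFree (Gn.map ρ) := (CfsgLib.QP.radFree_of_irreducible hirr).of_normal
    (map_le_range ρ Gn) (by rintro _ ⟨x, rfl⟩; exact hnorm x)
  have hAn : A.map ρ ≤ normalizer ((Gn.map ρ : Subgroup _) : Set (LinearMap.GeneralLinearGroup (ZMod p) (CfsgLib.ZJ.ElabMod V hV))) := by
    rintro _ ⟨x, -, rfl⟩
    exact CfsgLib.RankOne.conjBy_eq_self_iff.1 (hnorm x)
  exact involves_of_le_map ρ (fixed_map_le ρ (by rw [normalizer_eq_top (H := Gn)]; exact le_top) hcop)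
    (involves_fixed hp5 hrad hAn ((hcop.coprime_dvd_left (card_map_dvd A ρ)).coprime_dvd_right (card_map_dvd Gn ρ))
      ⟨_, hN⟩ hF)

/-- The stability statement. -/
theorem pcoreMod_of_quadratic.{v} {X : Type v} [Group X] [Finite X] (hp5 : 5 ≤ p) (hF : Fintype.card F = p)
    (Gn A : Subgroup X) [Gn.Normal] (hcop : (Nat.card A).Coprime (Nat.card Gn))
    (hfix : ¬ Cfsg.Involves (Matrix.ProjectiveSpecialLinearGroup (Fin 2) F) ↥(Gn ⊓ centralizer (A : Set X)))
    (P : Subgroup X) [P.Normal] (hP : IsPGroup p P) (a : X) (ha : a ∈ Gn)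
    (hq : ⁅⁅P, zpowers a⁆, zpowers a⁆ = ⊥) : CfsgLib.ZJ.PCoreMod p (centralizer (P : Set X)) a := by
  obtain ⟨n, hn⟩ : ∃ n, Nat.card X = n := ⟨_, rfl⟩
  induction n using Nat.strong_induction_on generalizing X with
  | _ n ih =>
    subst hn
    by_cases hP1 : P = ⊥
    · refine ⟨⊤, inferInstance, mem_top a, fun x _ => ⟨0, ?_⟩⟩
      rw [hP1, mem_centralizer_iff]
      intro u hu
      rw [mem_bot.mp hu, one_mul, mul_one]
    have hsol : Group.IsSolvable P := by
      haveI := hP.isNilpotent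
      infer_instance
    obtain ⟨V, hVn, hV1, hVP, hVc, hmin, q, hq', hVq, -⟩ :=
      Solvable.exists_normal_elementary_le (N := P) hP1 hsol
    have hV : Cfsg.IsElementaryAbelian p V := by
      obtain ⟨x, hx, hx1'⟩ := V.bot_or_exists_ne_one.resolve_left hV1
      obtain ⟨k, hk⟩ := (hP.to_le hVP) ⟨x, hx⟩
      have hk' : x ^ p ^ k = 1 := by simpa using congrArg Subtype.val hk
      have hqp : q = p := by
        haveI := Fact.mk hq'
        have hox : orderOf x = q := orderOf_eq_prime (hVq x hx) hx1'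
        have hd := orderOf_dvd_of_pow_eq_one hk'
        rw [hox] at hd
        exact (Nat.prime_dvd_prime_iff_eq hq' Fact.out).mp (hq'.dvd_of_dvd_pow hd)
      exact ⟨hVc, hqp ▸ hVq⟩
    have hqV : ⁅⁅V, zpowers a⁆, zpowers a⁆ = ⊥ :=
      le_bot_iff.mp ((commutator_mono (commutator_mono hVP le_rfl) le_rfl).trans hq.le)
    haveI := hVn
    have haV := mem_centralizer_of_minimal hp5 hF Gn A hcop hfix hV hV1 hmin ha hqV
    -- the quotient by `V`
    have hlt : Nat.card (X ⧸ V) < Nat.card X := Solvable.card_quotient_lt hV1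
    have hPn : (P.map (QuotientGroup.mk' V)).Normal :=
      Normal.map inferInstance _ (QuotientGroup.mk'_surjective V)
    have hGn : (Gn.map (QuotientGroup.mk' V)).Normal :=
      Normal.map inferInstance _ (QuotientGroup.mk'_surjective V)
    have hqq : ⁅⁅P.map (QuotientGroup.mk' V), zpowers (QuotientGroup.mk' V a)⁆,
        zpowers (QuotientGroup.mk' V a)⁆ = ⊥ := by
      rw [← MonoidHom.map_zpowers, ← map_commutator, ← map_commutator, hq, Subgroup.map_bot]
    have hfix' : ¬ Cfsg.Involves (Matrix.ProjectiveSpecialLinearGroup (Fin 2) F)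
        ↥(Gn.map (QuotientGroup.mk' V) ⊓ centralizer (A.map (QuotientGroup.mk' V) : Set (X ⧸ V))) := fun h =>
      hfix (involves_of_le_map (QuotientGroup.mk' V)
        (fixed_map_le (QuotientGroup.mk' V) (by rw [normalizer_eq_top (H := Gn)]; exact le_top) hcop) h)
    obtain ⟨D2, hD2, haD2, hD2p⟩ := ih _ hlt (Gn.map (QuotientGroup.mk' V)) (A.map (QuotientGroup.mk' V))
      ((hcop.coprime_dvd_left (card_map_dvd A _)).coprime_dvd_right (card_map_dvd Gn _)) hfix'
      (P.map (QuotientGroup.mk' V)) (hP.map _) (QuotientGroup.mk' V a) (mem_map_of_mem _ ha) hqq rfl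
    refine ⟨centralizer (V : Set X) ⊓ D2.comap (QuotientGroup.mk' V), inferInstance, ⟨haV, haD2⟩,
      fun x hx => ?_⟩
    obtain ⟨k, hk⟩ := hD2p _ hx.2
    refine ⟨k + 1, ?_⟩
    rw [pow_succ, pow_mul]
    refine CfsgLib.ZJ.pow_mem_centralizer_of_chain (P := P) hV (pow_mem hx.1 _) fun u hu => ?_
    rw [← map_pow] at hk
    have h4 := mem_centralizer_iff.mp hk _ (mem_map_of_mem _ hu)
    refine (QuotientGroup.eq_one_iff _).mp ?_
    show QuotientGroup.mk' V (x ^ p ^ k * u * (x ^ p ^ k)⁻¹ * u⁻¹) = 1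
    rw [map_mul, map_mul, map_mul, map_inv, map_inv, ← h4, mul_inv_cancel_right, mul_inv_cancel]

end CfsgLib.QuadFix
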