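import Cfsg.Agent.QuadFix.FixedPair
import Cfsg.Agent.QuadFix.Spread
import Cfsg.Agent.ZJ.Involve
import Cfsg.Agent.OddEnd.FourteenFinal
import Mathlib.LinearAlgebra.Matrix.ProjectiveSpecialLinearGroup

/-!
A coprime group of operators on a radical-free linear group with a quadratic element has fixed points
involving `PSL₂(p)`.
-/

set_option autoImplicit false
set_option linter.unusedSectionVars false
set_option linter.deprecated false
set_option linter.style.haveILetI false
set_option linter.unusedSimpArgs false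

universe v w

namespace CfsgLib.QuadFix

open Cfsg CfsgLib.QP

variable {p : ℕ} [Fact p.Prime] {M : Type v} [AddCommGroup M] [Module (ZMod p) M] [FiniteDimensional (ZMod p) M]

theorem involves_fixed (hp5 : 5 ≤ p) {Y A : Subgroup (LinearMap.GeneralLinearGroup (ZMod p) M)}
    (hY : RadFree Y) (hA : A ≤ Subgroup.normalizer (Y : Set (LinearMap.GeneralLinearGroup (ZMod p) M)))
    (hcop : (Nat.card A).Coprime (Nat.card Y)) (hN : ∃ N, IsRoot Y N)
    {F : Type w} [Field F] [Fintype F] (hF : Fintype.card F = p) :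
    Involves (Matrix.ProjectiveSpecialLinearGroup (Fin 2) F)
      ↥(Y ⊓ Subgroup.centralizer (A : Set (LinearMap.GeneralLinearGroup (ZMod p) M))) := by
  classical
  have hp := (Fact.out : p.Prime)
  have h2 : (2 : ZMod p) ≠ 0 := fun h => by
    have h' : ((2 : ℕ) : ZMod p) = 0 := by exact_mod_cast h
    rw [ZMod.natCast_eq_zero_iff] at h'
    have := Nat.le_of_dvd two_pos h'
    omega
  have h3 : Nat.card (ZMod p) ≠ 3 := by rw [Nat.card_zmod]; omega
  have hopp := hY.hasOpposites h2 h3
  obtain ⟨S₀, hS₀⟩ := exists_minRoot hN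
  -- operators have odd order
  have heven : 2 ∣ Nat.card Y := by
    obtain ⟨T₀, hT₀, hne₀⟩ := hopp _ hS₀
    obtain ⟨K, _, _, _, D, hadj, heS, heT, hkS, hkT, -⟩ := exists_corner_field hS₀ hT₀ h2 h3 hne₀
    have hinj := homU_injective D heS heT hkS hkT
    have hle : D.homU.range ≤ Y := by
      rw [← pairGrp_eq_range D h2 h3 hadj heS heT]
      exact pairGrp_le _ _ hS₀.fam hT₀.fam
    obtain ⟨g, hg⟩ : ∃ g, g = diagHom K (-1 : (ZMod p)ˣ) := ⟨_, rfl⟩
    have hg2 : orderOf g = 2 := by
      refine orderOf_eq_prime (hg ▸ by rw [pow_two, ← map_mul]; simp) fun e => ?_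
      have h' := congrArg (fun x : Matrix.SpecialLinearGroup (Fin 2) K => x.1 0 0) (hg ▸ e)
      simp [diagHom_coe] at h'
      have h'' : algebraMap (ZMod p) K (2 : ZMod p) = 0 := by
        rw [map_ofNat]; linear_combination -h'
      rw [map_eq_zero] at h''
      exact h2 h''
    rw [← hg2, ← orderOf_injective D.homU hinj g]
    exact Y.orderOf_dvd_natCard (hle ⟨g, rfl⟩)
  have hodd : Odd (Nat.card A) := by
    rw [Nat.odd_iff]
    by_contra h
    have h2A : 2 ∣ Nat.card A := by omega
    have := Nat.dvd_gcd h2A heven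
    rw [hcop.gcd_eq_one] at this
    omega
  set L := comp Y S₀ with hL
  set A₀ := A ⊓ Subgroup.normalizer (L : Set (LinearMap.GeneralLinearGroup (ZMod p) M)) with hA₀
  have hd₀ : Nat.card A₀ ∣ Nat.card A := Subgroup.card_dvd_of_le inf_le_left
  have hodd₀ : Odd (Nat.card A₀) := hodd.of_dvd_nat hd₀
  have hsol₀ : Group.IsSolvable A₀ := CfsgLib.OddEnd.odd_solvable _ hodd₀
  obtain ⟨U, U', hU, hU', hcU, hne, hfix⟩ := exists_fixed_pair (p := p) hp5 hS₀ hopp h2 h3
    (inf_le_left.trans hA) inf_le_right hodd₀ hsol₀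
    ((hcop.coprime_dvd_left hd₀).coprime_dvd_right (Subgroup.card_dvd_of_le comp_le))
  obtain ⟨K, _, _, _, D, hadj, heS, heT, hkS, hkT, -⟩ := exists_corner_field hU hU' h2 h3 hne
  have hrange : D.homU.range ≤ L ⊓ Subgroup.centralizer (A₀ : Set (LinearMap.GeneralLinearGroup (ZMod p) M)) := by
    rw [← pairGrp_eq_range D h2 h3 hadj heS heT, pairGrp, Subgroup.closure_le]
    have key : ∀ {V : Module.End (ZMod p) M} (hV : IsMinRoot Y V), Conn Y S₀ V →
        (∀ a ∈ A₀, conjEnd a V = V) → ∀ c : ZMod p, fam hV.sq c ∈ L ⊓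
          Subgroup.centralizer (A₀ : Set (LinearMap.GeneralLinearGroup (ZMod p) M)) := by
      intro V hV hc hf c
      refine ⟨mem_comp_of_conn hV hc (fam_val _ _), Subgroup.mem_centralizer_iff.2 fun a ha => ?_⟩
      refine mul_inv_eq_iff_eq_mul.1 (Units.ext ?_)
      rw [conj_one_add a _ (fam_val hV.sq c), hf a ha, fam_val]
    rintro _ (⟨c, rfl⟩ | ⟨c, rfl⟩)
    · exact key hU hcU (fun a ha => (hfix a ha).1) c
    · exact key hU' (hcU.trans (conn_single hU hU' hne)) (fun a ha => (hfix a ha).2) c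
  obtain ⟨δ, hδ⟩ := exists_spread A L Y comp_le hA (fun a ha hnot x hx y hy => by
    have hg : conjBy Y a = Y := CfsgLib.RankOne.conjBy_eq_self_iff.2 (hA ha)
    have hnc : ¬ Conn Y S₀ (conjEnd a S₀) := fun hc => hnot (CfsgLib.RankOne.conjBy_eq_self_iff.1 (by
      rw [hL, conjBy_comp hg, comp_congr hc h2 h3]))
    refine commute_of_not_conn hopp h2 h3 hnc x hx _ ?_
    rw [← conjBy_comp hg]
    exact CfsgLib.RankOne.conj_mem_conjBy hy)
  let φ : F →+* K := (algebraMap (ZMod p) K).comp (ZMod.ringEquivOfPrime F hp hF).symm.toRingHom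
  let ψ : Matrix.SpecialLinearGroup (Fin 2) F →*
      ↥(L ⊓ Subgroup.centralizer (A₀ : Set (LinearMap.GeneralLinearGroup (ZMod p) M))) :=
    (Subgroup.inclusion hrange).comp (D.homU.rangeRestrict.comp (Matrix.SpecialLinearGroup.map φ))
  have hψ : Function.Injective ψ := by
    intro x y hxy
    have h1 := homU_injective D heS heT hkS hkT (congrArg Subtype.val hxy)
    apply Subtype.ext
    apply Matrix.map_injective φ.injective
    exact congrArg Subtype.val h1
  let γ := δ.comp ψ
  have hker : γ.ker ≤ Subgroup.center (Matrix.SpecialLinearGroup (Fin 2) F) := by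
    intro x hx
    rw [Subgroup.mem_center_iff]
    intro y
    apply hψ
    rw [map_mul, map_mul]
    exact Subtype.ext (hδ (ψ x) hx _ (ψ y).2.1)
  let f : γ.range →* Matrix.ProjectiveSpecialLinearGroup (Fin 2) F :=
    (QuotientGroup.lift γ.ker (QuotientGroup.mk' _) (fun x hx => (QuotientGroup.eq_one_iff x).2 (hker hx))).comp
      (QuotientGroup.quotientKerEquivRange γ).symm.toMonoidHom
  refine CfsgLib.ZJ.involves_of_surjective γ.range f fun y => ?_
  obtain ⟨x, rfl⟩ := QuotientGroup.mk'_surjective _ y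
  exact ⟨QuotientGroup.quotientKerEquivRange γ (QuotientGroup.mk x), by
    simp only [f, MonoidHom.comp_apply, MulEquiv.coe_toMonoidHom, MulEquiv.symm_apply_apply]
    rfl⟩

end CfsgLib.QuadFix
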