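import Cfsg.Agent.QuadFix.RootOrbit
import Cfsg.Agent.QuadPairs.Decompose
import Mathlib.GroupTheory.Nilpotent
import Mathlib.RingTheory.IntegralDomain
import Mathlib.Algebra.CharP.Lemmas

/-!
An odd coprime solvable group of operators normalising a component fixes an opposite pair of roots in it.
-/

set_option autoImplicit false
set_option linter.unusedSectionVars false
set_option linter.deprecated false
set_option linter.style.haveILetI false
set_option linter.unusedSimpArgs false

universe u v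

namespace CfsgLib.QuadFix

open Cfsg CfsgLib.QP

variable {k : Type u} [Field k] {M : Type v} [AddCommGroup M] [Module k M]

/-- Conjugation of subgroups as an action. -/
@[implicit_reducible]
def subgroupAction {G : Type*} [Group G] : MulAction G (Subgroup G) where
  smul g A := conjBy A g
  one_smul A := CfsgLib.RankOne.conjBy_one A
  mul_smul g h A := (CfsgLib.RankOne.conjBy_conjBy A h g).symm

/-- The action on the chain `range S ≤ ker S ≤ M` with scalars `c`, `1`, `c⁻¹`. -/
def OnChain (S : Module.End k M) (c : kˣ) (g : LinearMap.GeneralLinearGroup k M) : Prop :=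
  (∀ x ∈ LinearMap.range S, (g : Module.End k M) x = (c : k) • x) ∧
    (∀ x ∈ LinearMap.ker S, (g : Module.End k M) x - x ∈ LinearMap.range S) ∧
    ∀ x, (g : Module.End k M) x - ((c⁻¹ : kˣ) : k) • x ∈ LinearMap.ker S

variable {S : Module.End k M}

theorem onChain_one : OnChain S 1 (1 : LinearMap.GeneralLinearGroup k M) :=
  ⟨fun x _ => by simp, fun x _ => by simp, fun x => by simp⟩

theorem OnChain.mul (hS : S * S = 0) {c d : kˣ} {g h : LinearMap.GeneralLinearGroup k M}
    (hg : OnChain S c g) (hh : OnChain S d h) : OnChain S (c * d) (g * h) := by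
  have hRK : ∀ x ∈ LinearMap.range S, x ∈ LinearMap.ker S := by
    rintro _ ⟨y, rfl⟩
    exact LinearMap.congr_fun hS y
  refine ⟨fun x hx => ?_, fun x hx => ?_, fun x => ?_⟩
  · rw [Units.val_mul, Module.End.mul_apply, hh.1 x hx, map_smul, hg.1 x hx, smul_smul, mul_comm,
      ← Units.val_mul]
  · rw [Units.val_mul, Module.End.mul_apply,
      show (g : Module.End k M) ((h : Module.End k M) x) - x =
        (g : Module.End k M) ((h : Module.End k M) x - x) + ((g : Module.End k M) x - x) by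
      rw [map_sub]; abel]
    refine add_mem ?_ (hg.2.1 x hx)
    rw [hg.1 _ (hh.2.1 x hx)]
    exact Submodule.smul_mem _ _ (hh.2.1 x hx)
  · rw [Units.val_mul, Module.End.mul_apply, mul_inv_rev, Units.val_mul,
      show (g : Module.End k M) ((h : Module.End k M) x) - (((d⁻¹ : kˣ) : k) * ((c⁻¹ : kˣ) : k)) • x =
        (g : Module.End k M) ((h : Module.End k M) x - ((d⁻¹ : kˣ) : k) • x) +
          ((d⁻¹ : kˣ) : k) • ((g : Module.End k M) x - ((c⁻¹ : kˣ) : k) • x) by
      rw [map_sub, map_smul, smul_sub, smul_smul]; abel]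
    refine add_mem ?_ (Submodule.smul_mem _ _ (hg.2.2 x))
    have hy := hh.2.2 x
    generalize (h : Module.End k M) x - ((d⁻¹ : kˣ) : k) • x = y at hy ⊢
    have := add_mem (hRK _ (hg.2.1 y hy)) hy
    rwa [sub_add_cancel] at this

theorem OnChain.unique (hne : S ≠ 0) {c d : kˣ} {g : LinearMap.GeneralLinearGroup k M}
    (hg : OnChain S c g) (hg' : OnChain S d g) : c = d := by
  obtain ⟨m, hm⟩ : ∃ m, S m ≠ 0 := by
    by_contra h
    push Not at h
    exact hne (LinearMap.ext h)
  have := (hg.1 _ ⟨m, rfl⟩).symm.trans (hg'.1 _ ⟨m, rfl⟩)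
  exact Units.ext (smul_left_injective k hm this)

theorem OnChain.conj {c : kˣ} {g a : LinearMap.GeneralLinearGroup k M} (hg : OnChain S c g)
    (hR : (LinearMap.range S).map (a : Module.End k M) = LinearMap.range S)
    (hK : (LinearMap.ker S).map (a : Module.End k M) = LinearMap.ker S) : OnChain S c (a * g * a⁻¹) := by
  have happ : ∀ y, ((a * g * a⁻¹ : LinearMap.GeneralLinearGroup k M) : Module.End k M) ((a : Module.End k M) y) =
      (a : Module.End k M) ((g : Module.End k M) y) := fun y => by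
    show (((a * g * a⁻¹ : LinearMap.GeneralLinearGroup k M) : Module.End k M) * (a : Module.End k M)) y = _
    rw [← Units.val_mul, inv_mul_cancel_right, Units.val_mul]
    rfl
  refine ⟨fun x hx => ?_, fun x hx => ?_, fun x => ?_⟩
  · rw [← hR] at hx
    obtain ⟨y, hy, rfl⟩ := hx
    rw [happ, hg.1 y hy, map_smul]
  · rw [← hK] at hx
    obtain ⟨y, hy, rfl⟩ := hx
    rw [happ, ← map_sub, ← hR]
    exact ⟨_, hg.2.1 y hy, rfl⟩
  · have e : x = (a : Module.End k M) (((a⁻¹ : LinearMap.GeneralLinearGroup k M) : Module.End k M) x) := by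
      rw [← Module.End.mul_apply, Units.mul_inv]; rfl
    rw [e, happ, ← map_smul, ← map_sub, ← hK]
    exact ⟨_, hg.2.2 _, rfl⟩

/-- The diagonal matrices with entries in `k`. -/
noncomputable def diagHom (K : Type*) [Field K] [Algebra k K] :
    kˣ →* Matrix.SpecialLinearGroup (Fin 2) K :=
  MonoidHom.mk' (fun c => ⟨!![algebraMap k K (c : k), 0; 0, algebraMap k K ((c⁻¹ : kˣ) : k)], by
      rw [Matrix.det_fin_two_of, ← map_mul, Units.mul_inv, map_one, mul_zero, sub_zero]⟩)
    (fun c d => by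
      apply Subtype.ext
      show _ = _ * _
      rw [Matrix.mul_fin_two]
      simp [mul_comm])

theorem diagHom_coe (K : Type*) [Field K] [Algebra k K] (c : kˣ) :
    ((diagHom K c : Matrix.SpecialLinearGroup (Fin 2) K) : Matrix (Fin 2) (Fin 2) K) =
      !![algebraMap k K (c : k), 0; 0, algebraMap k K ((c⁻¹ : kˣ) : k)] := rfl

variable [FiniteDimensional k M] [Finite k] {H : Subgroup (LinearMap.GeneralLinearGroup k M)}
  {S₀ T : Module.End k M}

/-- The torus of an opposite pair with its two projections. -/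
theorem exists_torus (hS : IsMinRoot H S) (hT : IsMinRoot H T) (h2 : (2 : k) ≠ 0) (h3 : Nat.card k ≠ 3)
    (hne : S * T * S ≠ 0) (hc : Conn H S₀ S) :
    ∃ (τ : kˣ →* LinearMap.GeneralLinearGroup k M) (P₁ P₂ : Module.End k M),
      (∀ c, τ c ∈ comp H S₀ ∧ OnChain S c (τ c)) ∧
      LinearMap.ker T = LinearMap.ker P₁ ∧ LinearMap.range T = LinearMap.range P₂ ∧
      ∀ (c : kˣ) (a : Module.End k M), Commute a (τ c : Module.End k M) → (c : k) ≠ 1 → (c : k) * c ≠ 1 →
        Commute a P₁ ∧ Commute a P₂ := by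
  obtain ⟨K, _, _, _, D, hadj, heS, heT, hkS, hkT, -⟩ := exists_corner_field hS hT h2 h3 hne
  obtain ⟨e, he⟩ : ∃ e, e = D.ι 1 := ⟨_, rfl⟩
  obtain ⟨b, hb⟩ : ∃ b, b = D.ι D.β := ⟨_, rfl⟩
  obtain ⟨P, hP⟩ : ∃ P, P = b * (S * T) := ⟨_, rfl⟩
  obtain ⟨P', hP'⟩ : ∃ P', P' = b * (T * S) := ⟨_, rfl⟩
  rw [← he] at heS heT
  have hbS : S * b = b * S := hb ▸ (D.comm D.β).1.eq.symm
  have hbT : T * b = b * T := hb ▸ (D.comm D.β).2.eq.symm
  have heS' : S * e = S := by rw [he, ← (D.comm 1).1.eq, ← he, heS]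
  have heT' : T * e = T := by rw [he, ← (D.comm 1).2.eq, ← he, heT]
  have hbz : b * (S * T + T * S) = e := by rw [hb, D.mul_z, mul_comm D.β, D.αβ, he]
  have hsum : P + P' = e := by rw [hP, hP', ← mul_add, hbz]
  have hPS : P * S = S := by
    rw [hP, mul_assoc, mul_assoc S, ← mul_assoc S T, ← z_mul_S hS.sq, ← mul_assoc, hbz, heS]
  have hP'T : P' * T = T := by
    rw [hP', mul_assoc, ← z_mul_S hT.sq, add_comm, ← mul_assoc, hbz, heT]
  have hSP : S * P = 0 := by
    rw [hP, ← mul_assoc, hbS, mul_assoc, ← mul_assoc S S, hS.sq, zero_mul, mul_zero]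
  have hPT : P * T = 0 := by rw [hP, mul_assoc, mul_assoc S, hT.sq, mul_zero, mul_zero]
  have hee : e * e = e := he ▸ D.e_idem
  have heP : e * P = P := by rw [hP, ← mul_assoc, he, hb, ← D.map_mul, one_mul]
  have hPP : P * P = P := by
    conv_lhs => arg 2; rw [hP, ← mul_assoc b]
    rw [← mul_assoc, ← mul_assoc]
    have : P * b * S = b * S := by
      rw [mul_assoc, ← hbS, ← mul_assoc, hPS, hbS]
    rw [this, hP, mul_assoc b]
  have hPe : P * e = P := by rw [hP, mul_assoc, mul_assoc S, heT']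
  let τ : kˣ →* LinearMap.GeneralLinearGroup k M := D.homU.comp (diagHom K)
  have hval : ∀ c : kˣ, (τ c : Module.End k M) =
      1 - e + ((c⁻¹ : kˣ) : k) • e + ((c : k) - ((c⁻¹ : kˣ) : k)) • P := by
    intro c
    show (D.homU (diagHom K c) : Module.End k M) = _
    rw [D.homU_val, CornerData.Φ, diagHom_coe]
    simp only [Matrix.cons_val', Matrix.cons_val_zero, Matrix.cons_val_one, Matrix.of_apply,
      Matrix.cons_val_fin_one, zero_mul, D.map_zero, add_zero]
    rw [← map_sub, D.map_alg, D.map_mul, D.map_alg, ← he, ← hb, hP, smul_mul_assoc, smul_mul_assoc,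
      he, hb, ← D.map_mul, one_mul, ← hb]
    abel
  have hrange : D.homU.range ≤ comp H S₀ := by
    rw [← pairGrp_eq_range D h2 h3 hadj (he ▸ heS) (he ▸ heT), pairGrp, Subgroup.closure_le]
    rintro _ (⟨c, rfl⟩ | ⟨c, rfl⟩)
    · exact mem_comp_of_conn hS hc (fam_val _ _)
    · exact mem_comp_of_conn hT (hc.trans (conn_single hS hT hne)) (fam_val _ _)
  refine ⟨τ, P, P', fun c => ⟨hrange ⟨_, rfl⟩, ?_⟩, ?_, ?_, ?_⟩
  · refine ⟨?_, fun x hx => ?_, fun x => ?_⟩
    · rintro _ ⟨y, rfl⟩
      have : (τ c : Module.End k M) * S = (c : k) • S := by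
        rw [hval]
        simp only [add_mul, sub_mul, one_mul, smul_mul_assoc, heS, hPS]
        module
      exact LinearMap.congr_fun this y
    · rw [LinearMap.mem_ker] at hx
      have hP'x : P' x = 0 := by rw [hP', Module.End.mul_apply, Module.End.mul_apply, hx, map_zero, map_zero]
      have hex : e x = P x := by rw [← hsum, LinearMap.add_apply, hP'x, add_zero]
      have : (τ c : Module.End k M) x - x = ((c : k) - 1) • P x := by
        rw [hval]
        simp only [LinearMap.add_apply, LinearMap.sub_apply, Module.End.one_apply, LinearMap.smul_apply, hex]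
        module
      rw [this]
      refine Submodule.smul_mem _ _ ⟨b (T x), ?_⟩
      rw [hP, ← Module.End.mul_apply, ← Module.End.mul_apply, hbS, mul_assoc]
    · rw [LinearMap.mem_ker]
      have : S * (τ c : Module.End k M) = ((c⁻¹ : kˣ) : k) • S := by
        rw [hval]
        simp only [mul_add, mul_sub, mul_one, mul_smul_comm, heS', hSP, smul_zero, add_zero, sub_self, zero_add]
      rw [map_sub, map_smul, sub_eq_zero]
      exact LinearMap.congr_fun this x
  · refine le_antisymm (fun m hm => ?_) (fun m hm => ?_)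
    · rw [LinearMap.mem_ker] at hm ⊢
      rw [hP, Module.End.mul_apply, Module.End.mul_apply, hm, map_zero, map_zero]
    · rw [LinearMap.mem_ker] at hm ⊢
      have hTP : T * P = T := by
        rw [hP, ← mul_assoc, hbT, mul_assoc, ← mul_assoc T S, ← z_mul_S hT.sq, add_comm, ← mul_assoc,
          hbz, heT]
      rw [← hTP, Module.End.mul_apply, hm, map_zero]
  · refine le_antisymm ?_ ?_
    · rintro _ ⟨m, rfl⟩
      exact ⟨T m, LinearMap.congr_fun hP'T m⟩
    · rintro _ ⟨m, rfl⟩
      refine ⟨b (S m), ?_⟩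
      rw [hP', ← Module.End.mul_apply, ← Module.End.mul_apply, hbT, mul_assoc]
  · intro c a ha hc1 hc2
    have hci : (c : k) * ((c⁻¹ : kˣ) : k) = 1 := Units.mul_inv c
    obtain ⟨ci, hciv⟩ : ∃ ci : k, ci = ((c⁻¹ : kˣ) : k) := ⟨_, rfl⟩
    rw [← hciv] at hci
    have hb0 : (c : k) - ci ≠ 0 := fun h => hc2 (by
      rw [sub_eq_zero] at h
      nth_rewrite 2 [h]
      exact hci)
    have hci1 : ci - 1 ≠ 0 := fun h => hc1 (by rw [sub_eq_zero.1 h, mul_one] at hci; exact hci)
    have hc10 : (c : k) - 1 ≠ 0 := sub_ne_zero.2 hc1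
    have hv := hval c
    rw [← hciv] at hv
    have e1 : ((τ c : Module.End k M) - 1) * ((τ c : Module.End k M) - ci • 1) =
        (((c : k) - ci) * ((c : k) - 1)) • P := by
      rw [hv]
      simp only [add_mul, mul_add, sub_mul, mul_sub, one_mul, mul_one, smul_mul_assoc, mul_smul_comm,
        smul_add, smul_sub, smul_smul, hee, heP, hPe, hPP]
      module
    have e2 : ((τ c : Module.End k M) - 1) * ((τ c : Module.End k M) - (c : k) • 1) =
        ((ci - 1) * ((c : k) - ci)) • (P - e) := by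
      rw [hv]
      simp only [add_mul, mul_add, sub_mul, mul_sub, one_mul, mul_one, smul_mul_assoc, mul_smul_comm,
        smul_add, smul_sub, smul_smul, hee, heP, hPe, hPP]
      module
    have hcm : ∀ r : k, Commute a (((τ c : Module.End k M) - 1) * ((τ c : Module.End k M) - r • 1)) :=
      fun r => (ha.sub_right (Commute.one_right a)).mul_right (ha.sub_right ((Commute.one_right a).smul_right r))
    have cP : Commute a P := by
      have h := (e1 ▸ hcm ci).smul_right (((c : k) - ci) * ((c : k) - 1))⁻¹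
      rwa [smul_smul, inv_mul_cancel₀ (mul_ne_zero hb0 hc10), one_smul] at h
    refine ⟨cP, ?_⟩
    have h := (e2 ▸ hcm (c : k)).smul_right ((ci - 1) * ((c : k) - ci))⁻¹
    rw [smul_smul, inv_mul_cancel₀ (mul_ne_zero hci1 hb0), one_smul, ← hsum] at h
    rw [show P - (P + P') = -P' by abel] at h
    simpa using h.neg_right

theorem mem_rootStab_of_map (hT : IsMinRoot H T) {g : LinearMap.GeneralLinearGroup k M} (hg : conjBy H g = H)
    (hk : (LinearMap.ker T).map (g : Module.End k M) = LinearMap.ker T)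
    (hr : (LinearMap.range T).map (g : Module.End k M) = LinearMap.range T) :
    g ∈ rootStab (rootSpace H hT.sq) := by
  intro z hz
  refine ⟨?_, ?_, hz.2.2.conj_of_normalizes hg⟩
  · rw [ker_conjEnd, ← hk]; exact Submodule.map_mono hz.1
  · rw [range_conjEnd, ← hr]; exact Submodule.map_mono hz.2.1

theorem map_of_mem_rootStab (hS : IsMinRoot H S) {g : LinearMap.GeneralLinearGroup k M}
    (hg : g ∈ rootStab (rootSpace H hS.sq)) :
    (LinearMap.ker S).map (g : Module.End k M) = LinearMap.ker S ∧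
      (LinearMap.range S).map (g : Module.End k M) = LinearMap.range S := by
  obtain ⟨-, hk, hr⟩ := hS.of_mem_rootSpace (hg S (mem_rootSpace_self hS.toIsRoot))
    (fun e => hS.ne (conjEnd_eq_zero e))
  rw [ker_conjEnd] at hk
  rw [range_conjEnd] at hr
  exact ⟨hk, hr⟩

variable {p : ℕ} [Fact p.Prime] [CharP k p]

theorem pow_char_eq_one (hp : 3 ≤ p) (hne : S ≠ 0) {g : LinearMap.GeneralLinearGroup k M}
    (hg : OnChain S 1 g) : g ^ p = 1 := by
  have : Nontrivial M := by
    by_contra h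
    rw [not_nontrivial_iff_subsingleton] at h
    exact hne (LinearMap.ext fun m => Subsingleton.elim _ _)
  have : CharP (Module.End k M) p :=
    charP_of_injective_algebraMap (FaithfulSMul.algebraMap_injective k (Module.End k M)) p
  obtain ⟨u, hu⟩ : ∃ u, u = (g : Module.End k M) - 1 := ⟨_, rfl⟩
  have hu' : ∀ x, u x = (g : Module.End k M) x - x := fun x => by rw [hu]; rfl
  have h3 : u ^ 3 = 0 := by
    ext m
    rw [pow_succ, pow_two, Module.End.mul_apply, Module.End.mul_apply]
    have h1 : u m ∈ LinearMap.ker S := by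
      have := hg.2.2 m
      rw [inv_one, Units.val_one, one_smul] at this
      rw [hu']; exact this
    have h2 : u (u m) ∈ LinearMap.range S := by rw [hu' (u m)]; exact hg.2.1 _ h1
    rw [hu' (u (u m)), hg.1 _ h2, Units.val_one, one_smul, sub_self]
    rfl
  apply Units.ext
  rw [Units.val_pow_eq_pow_val, Units.val_one, ← sub_eq_zero]
  have e := sub_pow_char_of_commute (p := p) (Commute.one_right (g : Module.End k M))
  rw [one_pow] at e
  rw [← e, ← hu, ← Nat.sub_add_cancel hp, pow_add, h3, mul_zero]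

/-- A group of operators normalising a root group in a component normalises an opposite one. -/
theorem exists_stable_opposite (hp : 5 ≤ p) (hS : IsMinRoot H S) (hT : IsMinRoot H T)
    (h2 : (2 : k) ≠ 0) (h3 : Nat.card k ≠ 3) (hne : S * T * S ≠ 0) (hc : Conn H S₀ S)
    {A : Subgroup (LinearMap.GeneralLinearGroup k M)}
    (hAH : A ≤ Subgroup.normalizer (H : Set (LinearMap.GeneralLinearGroup k M)))
    (hA : A ≤ Subgroup.normalizer (comp H S₀ : Set (LinearMap.GeneralLinearGroup k M)))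
    (hAV : A ≤ rootStab (rootSpace H hS.sq)) (hcop : (Nat.card A).Coprime (Nat.card (comp H S₀))) :
    ∃ (T' : Module.End k M) (hT' : IsMinRoot H T'), S * T' * S ≠ 0 ∧ A ≤ rootStab (rootSpace H hT'.sq) := by
  classical
  obtain ⟨τ, P₁, P₂, hτ, hker, hrange, hproj⟩ := exists_torus hS hT h2 h3 hne hc
  let _ := Fintype.ofFinite k
  obtain ⟨c, hgen⟩ := IsCyclic.exists_generator (α := kˣ)
  have hord : orderOf c = Fintype.card k - 1 := by
    rw [orderOf_eq_card_of_forall_mem_zpowers hgen, Nat.card_eq_fintype_card, Fintype.card_units]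
  obtain ⟨n, -, hn⟩ := FiniteField.card k p
  have hpk : p ≤ Fintype.card k := hn ▸ Nat.le_self_pow n.ne_zero p
  have hc1 : (c : k) ≠ 1 := fun e => by
    rw [show c = 1 from Units.ext e, orderOf_one] at hord; omega
  have hc2 : (c : k) * c ≠ 1 := fun e => by
    have : orderOf c ∣ 2 := orderOf_dvd_of_pow_eq_one (by rw [pow_two]; exact Units.ext e)
    rw [hord] at this
    have := Nat.le_of_dvd two_pos this
    omega
  let Q : Subgroup (LinearMap.GeneralLinearGroup k M) :=
    { carrier := {g | g ∈ comp H S₀ ∧ OnChain S 1 g}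
      one_mem' := ⟨one_mem _, onChain_one⟩
      mul_mem' := fun {g h} hg hh => ⟨mul_mem hg.1 hh.1, by simpa using hg.2.mul hS.sq hh.2⟩
      inv_mem' := fun {g} hg => ⟨inv_mem hg.1, by
        have e : g⁻¹ = g ^ (p - 1) := inv_eq_of_mul_eq_one_left (by
          rw [← pow_succ, Nat.sub_add_cancel (by omega), pow_char_eq_one (by omega) hS.ne hg.2])
        have hpow : ∀ i : ℕ, OnChain S 1 (g ^ i) := by
          intro i
          induction i with
          | zero => rw [pow_zero]; exact onChain_one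
          | succ i ih => rw [pow_succ]; simpa using ih.mul hS.sq hg.2
        rw [e]; exact hpow _⟩ }
  have hQL : Q ≤ comp H S₀ := fun g hg => hg.1
  have hQp : IsPGroup p Q := fun g => ⟨1, Subtype.ext (by
    rw [pow_one, Subgroup.coe_pow, Subgroup.coe_one]; exact pow_char_eq_one (by omega) hS.ne g.2.2)⟩
  have hQsol : Group.IsSolvable Q := by
    haveI := hQp.isNilpotent
    infer_instance
  have hpowchain : ∀ {g : LinearMap.GeneralLinearGroup k M} {d : kˣ}, OnChain S d g →
      ∀ i : ℕ, OnChain S (d ^ i) (g ^ i) := by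
    intro g d hg i
    induction i with
    | zero => rw [pow_zero, pow_zero]; exact onChain_one
    | succ i ih => rw [pow_succ, pow_succ]; exact ih.mul hS.sq hg
  obtain ⟨t, ht⟩ : ∃ t, t = τ c := ⟨_, rfl⟩
  have htL : t ∈ comp H S₀ := ht ▸ (hτ c).1
  have htc : OnChain S c t := ht ▸ (hτ c).2
  have htci : OnChain S c⁻¹ t⁻¹ := by rw [ht, ← map_inv]; exact (hτ c⁻¹).2
  have htQ : Subgroup.zpowers t ≤ Subgroup.normalizer (Q : Set (LinearMap.GeneralLinearGroup k M)) := by
    rw [Subgroup.zpowers_le, Subgroup.mem_normalizer_iff]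
    intro x
    refine ⟨fun hx => ⟨mul_mem (mul_mem htL hx.1) (inv_mem htL), ?_⟩, fun hx => ?_⟩
    · simpa using (htc.mul hS.sq hx.2).mul hS.sq htci
    · rw [show x = t⁻¹ * (t * x * t⁻¹) * t by group]
      exact ⟨mul_mem (mul_mem (inv_mem htL) hx.1) htL, by simpa using (htci.mul hS.sq hx.2).mul hS.sq htc⟩
  have hot : orderOf t ∣ orderOf c := ht ▸ orderOf_map_dvd τ c
  have htcop : (Nat.card (Subgroup.zpowers t)).Coprime (Nat.card Q) := by
    obtain ⟨j, hj⟩ := hQp.exists_card_eq
    rw [hj, Nat.card_zpowers]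
    refine Nat.Coprime.pow_right j (Nat.Coprime.coprime_dvd_left (hot.trans hord.dvd) ?_)
    refine ((Fact.out : p.Prime).coprime_iff_not_dvd.2 fun h => ?_).symm
    have hdvd : p ∣ Fintype.card k := hn ▸ dvd_pow_self p n.ne_zero
    have h1 := Nat.dvd_sub hdvd h
    rw [show Fintype.card k - (Fintype.card k - 1) = 1 by omega] at h1
    exact (Fact.out : p.Prime).one_lt.ne' (Nat.dvd_one.1 h1)
  have hAQ : A ≤ Subgroup.normalizer (Q : Set (LinearMap.GeneralLinearGroup k M)) := by
    intro a ha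
    rw [Subgroup.mem_normalizer_iff]
    intro x
    obtain ⟨hk, hr⟩ := map_of_mem_rootStab hS (hAV ha)
    obtain ⟨hk', hr'⟩ := map_of_mem_rootStab hS (inv_mem (hAV ha))
    refine and_congr (Subgroup.mem_normalizer_iff.1 (hA ha) x) ⟨fun h => h.conj hr hk, fun h => ?_⟩
    simpa [mul_assoc] using h.conj hr' hk'
  -- the orbit of the torus element is stable
  set O : Set (Module.End k M) := {z | ∃ q ∈ Q, ((q * t * q⁻¹ : LinearMap.GeneralLinearGroup k M) : Module.End k M) = z}
    with hO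
  have hstep : ∀ a ∈ A, ∃ q ∈ Q, a * t * a⁻¹ = q * t * q⁻¹ := by
    intro a ha
    obtain ⟨hk, hr⟩ := map_of_mem_rootStab hS (hAV ha)
    obtain ⟨t', ht'⟩ : ∃ t', t' = a * t * a⁻¹ := ⟨_, rfl⟩
    have ht'c : OnChain S c t' := ht' ▸ htc.conj hr hk
    have ht'L : t' ∈ comp H S₀ := ht' ▸ (Subgroup.mem_normalizer_iff.1 (hA ha) t).1 htL
    have hmem : t' * t⁻¹ ∈ Q := ⟨mul_mem ht'L (inv_mem htL), by simpa using ht'c.mul hS.sq htci⟩
    have hle : Subgroup.zpowers t' ≤ Subgroup.zpowers t ⊔ Q := by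
      rw [Subgroup.zpowers_le, show t' = t' * t⁻¹ * t by group]
      exact mul_mem (Subgroup.mem_sup_right hmem) (Subgroup.mem_sup_left (Subgroup.mem_zpowers t))
    have hcard : Nat.card (Subgroup.zpowers t') = Nat.card (Subgroup.zpowers t) := by
      rw [Nat.card_zpowers, Nat.card_zpowers, ht']
      exact orderOf_injective (MulAut.conj a).toMonoidHom (MulAut.conj a).injective t
    obtain ⟨q, hq, he⟩ := CfsgLib.SZ.conj_rel htQ htcop (Or.inr hQsol) hle hcard
    refine ⟨q, hq, ?_⟩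
    have hqt : q * t * q⁻¹ ∈ Subgroup.zpowers t' := by
      rw [← he, CfsgLib.SZ.mem_conj_smul]
      rw [show q⁻¹ * (q * t * q⁻¹) * q = t by group]
      exact Subgroup.mem_zpowers t
    obtain ⟨i, hi⟩ := (isOfFinOrder_of_finite t').mem_powers_iff_mem_zpowers.2 hqt
    have hqc : OnChain S c (q * t * q⁻¹) := by
      have hqi : OnChain S 1 q⁻¹ := (Q.inv_mem hq).2
      simpa using (hq.2.mul hS.sq htc).mul hS.sq hqi
    simp only at hi
    have hci : c ^ i = c := (hpowchain ht'c i).unique hS.ne (hi ▸ hqc)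
    rw [← hi, ← ht']
    have hmod : i ≡ 1 [MOD orderOf t] := Nat.ModEq.of_dvd hot (pow_eq_pow_iff_modEq.1 (by rw [hci, pow_one]))
    have e : t ^ i = t := by rw [pow_eq_pow_iff_modEq.2 hmod, pow_one]
    rw [ht', conj_pow, e]
  letI := endAction (k := k) (M := M)
  have hsmul : ∀ (g x : LinearMap.GeneralLinearGroup k M),
      conjEnd g (x : Module.End k M) = ((g * x * g⁻¹ : LinearMap.GeneralLinearGroup k M) : Module.End k M) :=
    fun g x => by rw [conjEnd, Units.val_mul, Units.val_mul]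
  obtain ⟨_, ⟨q, hq, rfl⟩, hfix⟩ := CfsgLib.SZ.exists_fixed hAQ
    (hcop.coprime_dvd_right (Subgroup.card_dvd_of_le hQL)) (Or.inr hQsol) O ⟨_, 1, one_mem Q, rfl⟩
    (by
      rintro a ha _ ⟨m, hm, rfl⟩
      obtain ⟨m', hm', e⟩ := hstep a ha
      refine ⟨a * m * a⁻¹ * m', mul_mem ((Subgroup.mem_normalizer_iff.1 (hAQ ha) m).1 hm) hm', ?_⟩
      show _ = conjEnd _ _
      rw [hsmul]
      congr 1
      calc a * m * a⁻¹ * m' * t * (a * m * a⁻¹ * m')⁻¹
          = a * m * a⁻¹ * (m' * t * m'⁻¹) * (a * m * a⁻¹)⁻¹ := by group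
        _ = a * (m * t * m⁻¹) * a⁻¹ := by rw [← e]; group)
    (by
      rintro _ ⟨m, hm, rfl⟩ _ ⟨m', hm', rfl⟩
      exact ⟨m' * m⁻¹, mul_mem hm' (inv_mem hm), by show conjEnd _ _ = _; rw [hsmul]; congr 1; group⟩)
    (by
      rintro m hm _ ⟨m', hm', rfl⟩
      exact ⟨m * m', mul_mem hm hm', by show _ = conjEnd _ _; rw [hsmul]; simp only [mul_inv_rev, mul_assoc]⟩)
  have hqH : q ∈ H := comp_le hq.1
  have hqS : conjEnd q S = S := by
    apply conjEnd_eq_of_mul
    ext m
    show (q : Module.End k M) (S m) = S ((q : Module.End k M) m)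
    rw [hq.2.1 _ ⟨m, rfl⟩, Units.val_one, one_smul]
    have := hq.2.2.2 m
    rw [inv_one, Units.val_one, one_smul, LinearMap.mem_ker, map_sub, sub_eq_zero] at this
    exact this.symm
  refine ⟨conjEnd q T, hT.conj hqH, fun e => hne ?_, fun a ha => ?_⟩
  · rw [← hqS, conjEnd_mul, conjEnd_mul] at e
    exact conjEnd_eq_zero e
  have haq : Commute (q⁻¹ * a * q) t := by
    have h := hfix a ha
    change conjEnd a _ = _ at h
    rw [hsmul, Units.val_inj] at h
    rw [commute_iff_eq]
    calc q⁻¹ * a * q * t = q⁻¹ * (a * (q * t * q⁻¹) * a⁻¹) * a * q := by group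
      _ = q⁻¹ * (q * t * q⁻¹) * a * q := by rw [h]
      _ = t * (q⁻¹ * a * q) := by group
  have hco : Commute ((q⁻¹ * a * q : LinearMap.GeneralLinearGroup k M) : Module.End k M) (τ c : Module.End k M) :=
    ht ▸ haq.map (Units.coeHom (Module.End k M))
  obtain ⟨hP1, hP2⟩ := hproj c _ hco hc1 hc2
  refine mem_rootStab_of_map (hT.conj hqH) (CfsgLib.RankOne.conjBy_eq_self_iff.2 (hAH ha)) ?_ ?_
  · have hfixP : conjEnd (q⁻¹ * a * q) P₁ = P₁ := conjEnd_eq_of_mul hP1.eq
    rw [← ker_conjEnd, conjEnd_conjEnd, show a * q = q * (q⁻¹ * a * q) by group, ← conjEnd_conjEnd,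
      ker_conjEnd, ker_conjEnd _ T]
    rw [ker_conjEnd, hker, ← ker_conjEnd, hfixP]
  · have hfixP : conjEnd (q⁻¹ * a * q) P₂ = P₂ := conjEnd_eq_of_mul hP2.eq
    rw [← range_conjEnd, conjEnd_conjEnd, show a * q = q * (q⁻¹ * a * q) by group, ← conjEnd_conjEnd,
      range_conjEnd, range_conjEnd _ T]
    rw [range_conjEnd, hrange, ← range_conjEnd, hfixP]

theorem conn_of_comp_eq (hS : IsMinRoot H S₀) (hopp : HasOpposites H) (h2 : (2 : k) ≠ 0)
    (h3 : Nat.card k ≠ 3) (h : comp H T = comp H S₀) : Conn H S₀ T := by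
  by_contra hn
  apply comp_ne_bot hS
  rw [← comp_commutator_eq hS hopp h2 h3]
  conv_lhs => arg 2; rw [← h]
  exact commutator_comp_eq_bot hopp h2 h3 hn

/-- The opposite fixed pair. -/
theorem exists_fixed_pair (hp : 5 ≤ p) (hS₀ : IsMinRoot H S₀) (hopp : HasOpposites H)
    (h2 : (2 : k) ≠ 0) (h3 : Nat.card k ≠ 3) {A : Subgroup (LinearMap.GeneralLinearGroup k M)}
    (hAH : A ≤ Subgroup.normalizer (H : Set (LinearMap.GeneralLinearGroup k M)))
    (hA : A ≤ Subgroup.normalizer (comp H S₀ : Set (LinearMap.GeneralLinearGroup k M)))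
    (hodd : Odd (Nat.card A)) (hsol : Group.IsSolvable A)
    (hcop : (Nat.card A).Coprime (Nat.card (comp H S₀))) :
    ∃ U U' : Module.End k M, IsMinRoot H U ∧ IsMinRoot H U' ∧ Conn H S₀ U ∧ U * U' * U ≠ 0 ∧
      ∀ a ∈ A, conjEnd a U = U ∧ conjEnd a U' = U' := by
  have hconn : ∀ (g : LinearMap.GeneralLinearGroup k M), conjBy H g = H →
      g ∈ Subgroup.normalizer (comp H S₀ : Set (LinearMap.GeneralLinearGroup k M)) →
      ∀ {S : Module.End k M}, IsMinRoot H S → Conn H S₀ S → Conn H S₀ (conjEnd g S) := by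
    intro g hgH hgL S hS hc
    refine conn_of_comp_eq hS₀ hopp h2 h3 ?_
    rw [← conjBy_comp hgH, ← comp_congr hc h2 h3]
    exact CfsgLib.RankOne.conjBy_eq_self_iff.2 hgL
  letI := subgroupAction (G := LinearMap.GeneralLinearGroup k M)
  have hpart : ∀ (g : LinearMap.GeneralLinearGroup k M), conjBy H g = H →
      g ∈ Subgroup.normalizer (comp H S₀ : Set (LinearMap.GeneralLinearGroup k M)) →
      ∀ E ∈ part H S₀, g • E ∈ part H S₀ := by
    rintro g hgH hgL _ ⟨σ, hσ, hc, rfl⟩
    refine ⟨g * σ * g⁻¹, ?_, ?_, sameActionSubgroup_conj_of_normalizes hσ hgH⟩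
    · rw [conjEnd_one_sub]; exact hσ.conj_of_normalizes hgH
    · rw [conjEnd_one_sub]; exact hconn g hgH hgL hσ hc
  obtain ⟨σ₀, -, hσ₀⟩ := hS₀.toIsRoot.exists_elem
  obtain ⟨_, ⟨σ, hσ, hcσ, rfl⟩, hfixE⟩ := CfsgLib.SZ.exists_fixed hA hcop (Or.inl hsol) (part H S₀)
    ⟨_, σ₀, hσ₀.symm ▸ hS₀, hσ₀.symm ▸ Relation.ReflTransGen.refl, rfl⟩
    (fun a ha => hpart a (CfsgLib.RankOne.conjBy_eq_self_iff.2 (hAH ha)) (hA ha))
    (by
      rintro _ ⟨α, hα, hcα, rfl⟩ _ ⟨β, hβ, hcβ, rfl⟩
      obtain ⟨x, hx, e⟩ := conn_conjugate (fun h => h.isMinRoot hα) h2 h3 rfl ((hcα.symm h2 h3).trans hcβ)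
      rw [← comp_congr hcα h2 h3] at hx
      exact ⟨x, hx, e.symm⟩)
    (fun x hx => hpart x (CfsgLib.RankOne.conjBy_of_mem (comp_le hx)) (Subgroup.le_normalizer hx))
  have hAV : A ≤ rootStab (rootSpace H hσ.sq) := by
    intro a ha z hz
    obtain ⟨x, hx, e⟩ := exists_mem_of_rootSpace hσ hz
    have hax : a * x * a⁻¹ ∈ sameActionSubgroup H σ := by
      have h := hfixE a ha
      change conjBy (sameActionSubgroup H σ) a = _ at h
      rw [← h]; exact CfsgLib.RankOne.conj_mem_conjBy hx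
    have := (mem_sameActionSubgroup hσ).1 hax
    rwa [conjEnd_one_sub, e, add_sub_cancel_left] at this
  obtain ⟨U, hU, hU0, hUfix⟩ := let ⟨T, hT, hne⟩ := hopp _ hσ
    exists_fixed_root h2 h3 hopp hσ hT hne hcσ hA hAV hodd hsol hcop
  obtain ⟨T₁, hT₁, hne₁⟩ := hopp _ hσ
  obtain ⟨T', hT', hne', hAW⟩ := exists_stable_opposite hp hσ hT₁ h2 h3 hne₁ hcσ hAH hA hAV hcop
  obtain ⟨U', hU', hU'0, hU'fix⟩ := exists_fixed_root h2 h3 hopp hT' hσ (opposite_symm hσ hT' h2 h3 hne')
    (hcσ.trans (conn_single hσ hT' hne')) hA hAW hodd hsol hcop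
  exact ⟨U, U', (hσ.of_mem_rootSpace hU hU0).1, (hT'.of_mem_rootSpace hU' hU'0).1,
    hcσ.trans (conn_of_mem_rootSpace hσ hopp h2 h3 hU hU0),
    opposite_of_mem hσ hT' h2 h3 hne' hU hU0 hU' hU'0, fun a ha => ⟨hUfix a ha, hU'fix a ha⟩⟩

end CfsgLib.QuadFix
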