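import Cfsg.Agent.QuadFix.Stable
import Cfsg.Agent.ZJ.Constrained
import Mathlib.GroupTheory.SemidirectProduct

/-!
The `Z(J)` factorisation of a p-constrained group with a coprime group of operators whose fixed points do
not involve `PSL₂(p)`.
-/

set_option autoImplicit false
set_option linter.unusedSectionVars false
set_option linter.deprecated false
set_option linter.style.haveILetI false
set_option linter.unusedSimpArgs false

namespace CfsgLib.QuadFix

open Subgroup CfsgLib.ZJ CfsgLib.Functor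

universe u w

variable {p : ℕ} [Fact p.Prime] {F : Type w} [Field F] [Fintype F]

theorem famCenter_normal_ambient {X : Type u} [Group X] [Finite X] (hp5 : 5 ≤ p) (hF : Fintype.card F = p)
    (Gn A : Subgroup X) [Gn.Normal] (hcop : (Nat.card A).Coprime (Nat.card Gn))
    (hfix : ¬ Cfsg.Involves (Matrix.ProjectiveSpecialLinearGroup (Fin 2) F) ↥(Gn ⊓ centralizer (A : Set X)))
    (S : Sylow p X) (hSG : (S : Subgroup X) ≤ Gn)
    (hc : centralizer (Cfsg.pCore p X : Set X) ⊓ Gn ≤ Cfsg.pCore p X) :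
    (famCenter (fun A : Subgroup X => IsMulCommutative A) (S : Subgroup X)).Normal := by
  have hp : p ≠ 2 := by omega
  have hQ := admissible_abelian (G := X)
  have hn := inf_famCenter_normal_of hp hQ S (S : Subgroup X) (stronglyClosed_self S)
    (fun B _ hB _ A₁ hA₁ a ha hq =>
      pcoreMod_of_quadratic hp5 hF Gn A hcop hfix B hB a (hSG (hA₁.2.1 ha)) hq)
    _ (Solvable.pCore_normal p) (Solvable.isPGroup_pCore p)
  set Z := famCenter (fun A : Subgroup X => IsMulCommutative A) (S : Subgroup X) with hZ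
  suffices Z ≤ Cfsg.pCore p X by rwa [inf_eq_right.mpr this] at hn
  intro z hz
  have hO : IsPGroup p (Cfsg.pCore p X) := Solvable.isPGroup_pCore p
  haveI : (Cfsg.pCore p X).Normal := Solvable.pCore_normal p
  have hOS : Cfsg.pCore p X ≤ S := hO.le_sylow_of_normal S
  have hzG : z ∈ Gn := hSG (famCenter_le hQ _ hz)
  have hSZ : (S : Subgroup X) ≤ normalizer (Z : Set X) := le_normalizer.trans (normalizer_le_famCenter hQ _)
  have hq : ⁅⁅Cfsg.pCore p X, zpowers z⁆, zpowers z⁆ = ⊥ := by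
    have hzZ : zpowers z ≤ Z := zpowers_le.mpr hz
    have h1 : ⁅Cfsg.pCore p X, zpowers z⁆ ≤ Z := by
      rw [commutator_le]
      intro x hx y hy
      rw [commutatorElement_def]
      exact Z.mul_mem ((mem_normalizer_iff.mp (hSZ (hOS hx)) y).mp (hzZ hy)) (Z.inv_mem (hzZ hy))
    refine le_bot_iff.mp ((commutator_mono h1 hzZ).trans (le_of_eq ?_))
    rw [commutator_eq_bot_iff_le_centralizer]
    exact fun x hx => mem_centralizer_iff.mpr fun y hy => famCenter_comm hQ hy hx
  obtain ⟨K, hK, hzK, hKp⟩ := pcoreMod_of_quadratic hp5 hF Gn A hcop hfix _ hO z hzG hq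
  haveI := hK
  refine Solvable.le_pCore p (N := K ⊓ Gn) inferInstance (fun x => ?_) ⟨hzK, hzG⟩
  obtain ⟨k, hk⟩ := hKp x x.2.1
  obtain ⟨j, hj⟩ := hO ⟨_, hc ⟨hk, pow_mem x.2.2 _⟩⟩
  exact ⟨k + j, Subtype.ext (by simpa [pow_add, pow_mul] using congrArg Subtype.val hj)⟩

theorem factorization {G : Type u} [Group G] [Finite G] (hp5 : 5 ≤ p) (hG : Cfsg.IsPConstrained p G)
    (S : Sylow p G) (A : Subgroup (MulAut G)) (hA : (Nat.card A).Coprime (Nat.card G)) (C : Subgroup G)
    (hC : ∀ g : G, g ∈ C ↔ ∀ a ∈ A, a g = g) (hF : Fintype.card F = p)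
    (hfix : ¬ Cfsg.Involves (Matrix.ProjectiveSpecialLinearGroup (Fin 2) F) ↥C) :
    Cfsg.pPrimeCore p G ⊔ normalizer (Cfsg.centerThompsonAOf (S : Subgroup G) : Set G) = ⊤ := by
  classical
  have hQ := admissible_abelian (G := G)
  set Z := Cfsg.centerThompsonAOf (S : Subgroup G) with hZ
  have hZS : Z ≤ S := by
    rw [hZ, ← famCenter_abelian_eq]
    exact famCenter_le hQ _
  by_cases hpG : p ∣ Nat.card G
  swap
  · have hS1 : (S : Subgroup G) = ⊥ := by
      rw [← Subgroup.card_eq_one, S.card_eq_multiplicity, Nat.factorization_eq_zero_of_not_dvd hpG, pow_zero]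
    have hZ1 : Z = ⊥ := le_bot_iff.1 (hZS.trans hS1.le)
    rw [hZ1, Subgroup.normalizer_eq_top (H := (⊥ : Subgroup G))]
    exact sup_top_eq _
  set N := Cfsg.pPrimeCore p G with hN
  have hcop : (Nat.card N).Coprime p := Solvable.coprime_card_pPrimeCore p
  haveI hNc : N.Characteristic := characteristic_iff_map_le.2 fun e =>
    Solvable.le_pPrimeCore _ ((Solvable.pPrimeCore_normal p).map e.toMonoidHom e.surjective)
      (by rw [card_map_of_injective e.injective]; exact hcop)
  -- the semidirect product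
  let incl : G →* G ⋊[A.subtype] A := SemidirectProduct.inl
  let inA : A →* G ⋊[A.subtype] A := SemidirectProduct.inr
  haveI : Finite (G ⋊[A.subtype] A) := Finite.of_equiv _ SemidirectProduct.equivProd.symm
  have hconj : ∀ (x : G ⋊[A.subtype] A) (n : G),
      x * incl n * x⁻¹ = incl (x.left * (x.right : MulAut G) n * x.left⁻¹) := by
    intro x n
    conv_lhs => rw [← SemidirectProduct.inl_left_mul_inr_right x]
    rw [map_mul, map_mul, map_inv, mul_inv_rev, show incl ((x.right : MulAut G) n) =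
      SemidirectProduct.inr x.right * incl n * SemidirectProduct.inr x.right⁻¹ from
        SemidirectProduct.inl_aut x.right n, map_inv]
    simp only [incl, mul_assoc]
  haveI hNn : (N.map incl).Normal := ⟨by
    rintro _ ⟨n, hn, rfl⟩ x
    rw [hconj]
    refine ⟨_, (inferInstance : N.Normal).conj_mem _ ?_ _, rfl⟩
    have := (characteristic_iff_map_eq.1 hNc (x.right : MulAut G))
    rw [← this]
    exact ⟨n, hn, rfl⟩⟩
  set π := QuotientGroup.mk' (N.map incl) with hπ
  obtain ⟨f, hf⟩ : ∃ f : G →* (G ⋊[A.subtype] A) ⧸ N.map incl, f = π.comp incl := ⟨_, rfl⟩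
  have hfker : ∀ x, f x = 1 ↔ x ∈ N := by
    intro x
    rw [hf, MonoidHom.comp_apply, hπ, QuotientGroup.mk'_apply, QuotientGroup.eq_one_iff]
    exact mem_map_iff_mem SemidirectProduct.inl_injective
  have hinj : ∀ x ∈ (S : Subgroup G), f x = 1 → x = 1 := fun x hx h =>
    mem_bot.mp (isPGroup_inf_coprime S.2 hcop ▸ (⟨hx, (hfker x).1 h⟩ : x ∈ (S : Subgroup G) ⊓ N))
  haveI hGn : f.range.Normal := ⟨by
    rintro _ ⟨n, rfl⟩ y
    obtain ⟨x, rfl⟩ := QuotientGroup.mk'_surjective (N.map incl) y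
    refine ⟨x.left * (x.right : MulAut G) n * x.left⁻¹, ?_⟩
    rw [hf, MonoidHom.comp_apply, MonoidHom.comp_apply, ← hconj, map_mul, map_mul, map_inv]⟩
  set Ab := (inA.range).map π with hAb
  have hAcard : Nat.card inA.range ∣ Nat.card A := by
    rw [Nat.card_congr (MonoidHom.ofInjective SemidirectProduct.inr_injective).symm.toEquiv]
  have hGcard : Nat.card incl.range ∣ Nat.card G := by
    rw [Nat.card_congr (MonoidHom.ofInjective SemidirectProduct.inl_injective).symm.toEquiv]
  have hcop' : (Nat.card Ab).Coprime (Nat.card f.range) :=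
    ((hA.coprime_dvd_left ((card_map_dvd inA.range π).trans hAcard))).coprime_dvd_right
      (Subgroup.card_range_dvd f)
  have hnorm : inA.range ≤ normalizer ((incl.range : Subgroup (G ⋊[A.subtype] A)) : Set (G ⋊[A.subtype] A)) := by
    intro y _
    rw [mem_normalizer_iff]
    intro z
    refine ⟨?_, fun hz => ?_⟩
    · rintro ⟨n, rfl⟩
      exact ⟨_, (hconj y n).symm⟩
    · obtain ⟨n, hn⟩ := hz
      refine ⟨_, ((hconj y⁻¹ n).symm.trans ?_)⟩
      rw [hn]; group
  have hfix' : ¬ Cfsg.Involves (Matrix.ProjectiveSpecialLinearGroup (Fin 2) F)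
      ↥(f.range ⊓ centralizer (Ab : Set ((G ⋊[A.subtype] A) ⧸ N.map incl))) := by
    refine fun h => hfix (involves_of_le_map f ?_ h)
    rw [show f.range = incl.range.map π by rw [hf, MonoidHom.range_comp]]
    refine (fixed_map_le π hnorm ((hA.coprime_dvd_left hAcard).coprime_dvd_right hGcard)).trans ?_
    rintro _ ⟨_, ⟨⟨c, rfl⟩, hc⟩, rfl⟩
    refine ⟨c, (hC c).2 fun a ha => ?_, by rw [hf]; rfl⟩
    have h1 := mem_centralizer_iff.1 hc (inA ⟨a, ha⟩) ⟨_, rfl⟩
    have h2 := hconj (inA ⟨a, ha⟩) c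
    rw [h1, mul_inv_cancel_right] at h2
    have h3 := SemidirectProduct.inl_injective h2
    simp [inA] at h3
    exact h3.symm
  -- the Sylow subgroup
  have hpA : ¬ p ∣ Nat.card A := fun h => (Fact.out : p.Prime).one_lt.ne' (Nat.eq_one_of_dvd_coprimes hA h hpG)
  set P := (S : Subgroup G).map f with hP
  have hPcard : Nat.card P = Nat.card (S : Subgroup G) := by
    rw [hP, Nat.card_congr (Equiv.ofBijective (f.subgroupMap (S : Subgroup G))
      ⟨fun x y h => Subtype.ext (inv_mul_eq_one.mp (hinj _ (mul_mem (inv_mem x.2) y.2)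
        (by rw [map_mul, map_inv]; exact inv_mul_eq_one.2 (congrArg Subtype.val h)))),
        f.subgroupMap_surjective _⟩).symm]
  obtain ⟨Sb, hSb⟩ := (show IsPGroup p P from S.2.map f).exists_le_sylow
  have hSbP : (Sb : Subgroup ((G ⋊[A.subtype] A) ⧸ N.map incl)) = P := by
    refine (Solvable.eq_of_le_of_card_le hSb ?_).symm
    rw [hPcard, Sb.card_eq_multiplicity, S.card_eq_multiplicity]
    refine Nat.pow_le_pow_right (Fact.out : p.Prime).pos ?_
    have hd : Nat.card ((G ⋊[A.subtype] A) ⧸ N.map incl) ∣ Nat.card G * Nat.card A :=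
      (Subgroup.card_quotient_dvd_card _).trans (by
        rw [Nat.card_congr SemidirectProduct.equivProd, Nat.card_prod])
    refine le_trans (((Nat.factorization_le_iff_dvd Nat.card_pos.ne'
      (Nat.mul_ne_zero Nat.card_pos.ne' Nat.card_pos.ne')).2 hd) p) (le_of_eq ?_)
    rw [Nat.factorization_mul Nat.card_pos.ne' Nat.card_pos.ne', Finsupp.add_apply,
      Nat.factorization_eq_zero_of_not_dvd hpA, add_zero]
  have hSbG : (Sb : Subgroup ((G ⋊[A.subtype] A) ⧸ N.map incl)) ≤ f.range := hSbP ▸ map_le_range f _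
  -- self-centralising p-core
  let j : G ⧸ N →* (G ⋊[A.subtype] A) ⧸ N.map incl :=
    QuotientGroup.lift N f fun x hx => (hfker x).2 hx
  have hjmk : ∀ g : G, j (QuotientGroup.mk g) = f g := fun g => rfl
  have hjinj : Function.Injective j := by
    rw [← MonoidHom.ker_eq_bot_iff, eq_bot_iff]
    intro y hy
    obtain ⟨x, rfl⟩ := QuotientGroup.mk_surjective y
    exact mem_bot.2 ((QuotientGroup.eq_one_iff x).2 ((hfker x).1 hy))
  have hjrange : j.range = f.range := by
    refine le_antisymm ?_ ?_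
    · rintro _ ⟨y, rfl⟩
      obtain ⟨x, rfl⟩ := QuotientGroup.mk_surjective y
      exact ⟨x, rfl⟩
    · rintro _ ⟨x, rfl⟩
      exact ⟨QuotientGroup.mk x, rfl⟩
  set Q := (Cfsg.pCore p (G ⧸ N)).map j with hQd
  have hQn : Q.Normal := ⟨fun q hq y => by
    set R := Q.map (MulAut.conj y).toMonoidHom with hR
    have hRG : R ≤ j.range := by
      rintro _ ⟨z, hz, rfl⟩
      rw [hjrange]
      exact hGn.conj_mem z (hjrange ▸ map_le_range j _ hz) y
    have hRn : (R.comap j).Normal := ⟨fun r hr g => by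
      obtain ⟨z, hz, hze⟩ := hr
      rw [Subgroup.mem_comap]
      obtain ⟨g', hg'⟩ : (MulAut.conj y⁻¹) (j g) ∈ j.range := by
        rw [hjrange]; exact hGn.conj_mem _ (hjrange ▸ ⟨g, rfl⟩) y⁻¹
      obtain ⟨z', hz', rfl⟩ := hz
      refine ⟨j (g' * z' * g'⁻¹), ⟨_, (Solvable.pCore_normal p).conj_mem z' hz' g', rfl⟩, ?_⟩
      simp only [MulEquiv.coe_toMonoidHom, MulAut.conj_apply, inv_inv] at hze hg' ⊢
      rw [map_mul, map_mul, map_inv, hg', map_mul, map_mul, map_inv, ← hze]
      group⟩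
    have hRp : IsPGroup p R := ((Solvable.isPGroup_pCore p).map j).map _
    obtain ⟨g, hg⟩ := hRG ⟨q, hq, rfl⟩
    have hgc : g ∈ R.comap j := by rw [Subgroup.mem_comap, hg]; exact ⟨q, hq, rfl⟩
    refine ⟨g, Solvable.le_pCore p hRn (hRp.comap_of_injective j hjinj) hgc, ?_⟩
    rw [hg]; rfl⟩
  haveI := hQn
  have hQO : Q ≤ Cfsg.pCore p ((G ⋊[A.subtype] A) ⧸ N.map incl) :=
    Solvable.le_pCore p hQn ((Solvable.isPGroup_pCore p).map j)
  have hc : centralizer (Cfsg.pCore p ((G ⋊[A.subtype] A) ⧸ N.map incl) :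
      Set ((G ⋊[A.subtype] A) ⧸ N.map incl)) ⊓ f.range ≤ Cfsg.pCore p ((G ⋊[A.subtype] A) ⧸ N.map incl) := by
    rintro _ ⟨hc, g, rfl⟩
    refine hQO ⟨QuotientGroup.mk g, centralizer_pCore_quotient_le hG ?_, hjmk g⟩
    refine mem_centralizer_iff.2 fun y hy => hjinj ?_
    rw [map_mul, map_mul, hjmk]
    exact mem_centralizer_iff.1 hc (j y) (hQO ⟨y, hy, rfl⟩)
  have h1 := famCenter_normal_ambient hp5 hF f.range Ab hcop' hfix' Sb hSbG hc
  rw [famCenter_abelian_eq, hSbP, centerThompsonAOf_map f _ hinj] at h1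
  rw [eq_top_iff]
  intro g _
  have hcm : (Z.map f).comap f = Z ⊔ N := by
    rw [comap_map_eq, show f.ker = N from Subgroup.ext hfker]
  have hg : g ∈ normalizer ((Z ⊔ N : Subgroup G) : Set G) := by
    rw [← hcm, normalizer_eq_top (H := (Z.map f).comap f)]
    exact mem_top g
  obtain ⟨n, hn, hng⟩ := exists_mul_mem_normalizer (S.2.to_le hZS) hcop hg
  rw [show g = n⁻¹ * (n * g) by group]
  exact mul_mem (mem_sup_left (inv_mem hn)) (mem_sup_right hng)

end CfsgLib.QuadFix
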