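import Mathlib.FieldTheory.Finite.Basic
import Mathlib.RingTheory.Polynomial.Basic
import Mathlib.Algebra.Algebra.Subalgebra.Lattice

/-!
Squaring in a subspace of a finite algebra that contains `1`, is closed under squares and consists of
units and zero: two members with the same square agree up to sign.
-/

set_option autoImplicit false
set_option linter.unusedSectionVars false
set_option linter.deprecated false
set_option linter.style.haveILetI false
set_option linter.unusedSimpArgs false

namespace CfsgLib.QuadFix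

open Polynomial

variable {k : Type*} [Field k] [Finite k] {Q : Type*} [Ring Q] [Algebra k Q] [Finite Q]

/-- Equal squares in a square-closed subspace of units. -/
theorem eq_or_eq_neg_of_sq (h2 : (2 : k) ≠ 0) (R : Submodule k Q) (h1 : (1 : Q) ∈ R)
    (hsq : ∀ r ∈ R, r * r ∈ R) (hu : ∀ r ∈ R, r ≠ 0 → IsUnit r) {a b : Q} (ha : a ∈ R) (hb : b ∈ R)
    (hab : a * a = b * b) : a = b ∨ a = -b := by
  classical
  by_contra hcon
  push Not at hcon
  have hnt : Nontrivial Q := ⟨⟨a, b, hcon.1⟩⟩
  obtain ⟨s, hs⟩ : ∃ s, s = a + b := ⟨_, rfl⟩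
  obtain ⟨d, hd⟩ : ∃ d, d = b - a := ⟨_, rfl⟩
  have hsR : s ∈ R := hs ▸ add_mem ha hb
  have hdR : d ∈ R := hd ▸ sub_mem hb ha
  have hs0 : s ≠ 0 := fun e => hcon.2 (eq_neg_of_add_eq_zero_left (hs ▸ e))
  have hd0 : d ≠ 0 := fun e => hcon.1 (sub_eq_zero.1 (hd ▸ e)).symm
  have hanti : d * s = -(s * d) := by
    rw [hs, hd]
    simp only [mul_add, add_mul, mul_sub, sub_mul, hab]
    abel
  -- products of commuting members
  have hprod : ∀ r ∈ R, ∀ t ∈ R, r * t = t * r → r * t ∈ R := by
    intro r hr t ht hc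
    have h : (r + t) * (r + t) - r * r - t * t ∈ R :=
      sub_mem (sub_mem (hsq _ (add_mem hr ht)) (hsq r hr)) (hsq t ht)
    rw [show (r + t) * (r + t) - r * r - t * t = (2 : k) • (r * t) by
      simp only [mul_add, add_mul, ← hc, two_smul]
      abel] at h
    have h' := R.smul_mem (2 : k)⁻¹ h
    rwa [smul_smul, inv_mul_cancel₀ h2, one_smul] at h'
  have hcs : ∀ x ∈ ({s * s, d * d} : Set Q), Commute x s ∧ Commute x d := by
    have e1 : Commute (s * s) d := by
      show s * s * d = d * (s * s)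
      rw [← mul_assoc d, hanti, neg_mul, mul_assoc, mul_assoc, hanti, mul_neg, neg_neg]
    have e2 : Commute (d * d) s := by
      show d * d * s = s * (d * d)
      rw [mul_assoc, hanti, mul_neg, ← mul_assoc, hanti, neg_mul, neg_neg, mul_assoc]
    rintro x (rfl | rfl)
    · exact ⟨(Commute.refl s).mul_left (Commute.refl s), e1⟩
    · exact ⟨e2, (Commute.refl d).mul_left (Commute.refl d)⟩
  have hcomm : ∀ x ∈ ({s * s, d * d} : Set Q), ∀ y ∈ ({s * s, d * d} : Set Q), x * y = y * x := by
    intro x hx y hy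
    rcases hy with rfl | rfl
    · exact ((hcs x hx).1.mul_right (hcs x hx).1).eq
    · exact ((hcs x hx).2.mul_right (hcs x hx).2).eq
  let K1 := Algebra.adjoin k ({s * s, d * d} : Set Q)
  letI : CommRing K1 := Algebra.adjoinCommRingOfComm k hcomm
  have hK1R : ∀ x ∈ K1, x ∈ R := by
    intro x hx
    induction hx using Algebra.adjoin_induction with
    | mem x hx =>
      rcases hx with rfl | rfl
      · exact hsq _ hsR
      · exact hsq _ hdR
    | algebraMap r => rw [Algebra.algebraMap_eq_smul_one]; exact R.smul_mem r h1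
    | add x y _ _ hx hy => exact add_mem hx hy
    | mul x y hxK hyK hx hy =>
      exact hprod x hx y hy (congrArg Subtype.val (mul_comm (⟨x, hxK⟩ : K1) ⟨y, hyK⟩))
  have hK1c : ∀ x ∈ K1, Commute x s ∧ Commute x d := by
    intro x hx
    induction hx using Algebra.adjoin_induction with
    | mem x hx => exact hcs x hx
    | algebraMap r => exact ⟨Algebra.commutes r s, Algebra.commutes r d⟩
    | add x y _ _ hx hy => exact ⟨hx.1.add_left hy.1, hx.2.add_left hy.2⟩
    | mul x y _ _ hx hy => exact ⟨hx.1.mul_left hy.1, hx.2.mul_left hy.2⟩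
  have : Nontrivial K1 := ⟨⟨0, 1, fun e => zero_ne_one (congrArg Subtype.val e)⟩⟩
  have : NoZeroDivisors K1 := ⟨fun {x y} hxy => by
    by_cases hx : (x : Q) = 0
    · exact Or.inl (Subtype.ext hx)
    · refine Or.inr (Subtype.ext ?_)
      have e : (x : Q) * (y : Q) = 0 := congrArg Subtype.val hxy
      exact (hu _ (hK1R _ x.2) hx).mul_right_eq_zero.1 e⟩
  have : IsDomain K1 := NoZeroDivisors.to_isDomain K1
  let _ := Fintype.ofFinite K1
  let _ := Fintype.ofFinite k
  let S2 : K1 := ⟨s * s, Algebra.subset_adjoin (Or.inl rfl)⟩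
  let D2 : K1 := ⟨d * d, Algebra.subset_adjoin (Or.inr rfl)⟩
  have hsu := hu s hsR hs0
  have hdu := hu d hdR hd0
  have hS2 : S2 ≠ 0 := fun e => (hsu.mul hsu).ne_zero (congrArg Subtype.val e)
  have hD2 : D2 ≠ 0 := fun e => (hdu.mul hdu).ne_zero (congrArg Subtype.val e)
  have hodd : Fintype.card K1 % 2 = 1 := by
    have hk : ringChar k ≠ 2 := fun e => h2 (by
      have h := CharP.cast_eq_zero k (ringChar k)
      rw [e] at h
      exact_mod_cast h)
    have hko := Nat.odd_iff.2 (FiniteField.odd_card_of_char_ne_two hk)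
    rw [← Nat.odd_iff, ← Nat.card_eq_fintype_card, Module.natCard_eq_pow_finrank (K := k) (V := K1),
      Nat.card_eq_fintype_card]
    exact hko.pow
  obtain ⟨x, z, hxz⟩ := FiniteField.exists_root_sum_quadratic
    (f := C S2 * X ^ 2) (g := C D2 * X ^ 2 - C 1)
    (degree_C_mul_X_pow 2 hS2)
    (by rw [degree_sub_C (by rw [degree_C_mul_X_pow 2 hD2]; decide), degree_C_mul_X_pow 2 hD2]; rfl)
    hodd
  simp only [eval_mul, eval_C, eval_pow, eval_X, eval_sub] at hxz
  obtain ⟨hxs, hxd⟩ := hK1c _ x.2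
  obtain ⟨hzs, hzd⟩ := hK1c _ z.2
  have hxz' : (x : Q) * z = z * x := congrArg Subtype.val (mul_comm x z)
  have hq : (s * s) * ((x : Q) * x) + (d * d) * ((z : Q) * z) = 1 := by
    have h' := congrArg Subtype.val hxz
    simp only [Subalgebra.coe_add, Subalgebra.coe_sub, Subalgebra.coe_mul, Subalgebra.coe_pow,
      Subalgebra.coe_one, Subalgebra.coe_zero, S2, D2, pow_two] at h'
    rw [← sub_eq_zero, ← h']
    abel
  obtain ⟨r, hr⟩ : ∃ r, r = (x : Q) * s + (z : Q) * d := ⟨_, rfl⟩
  have hrR : r ∈ R := hr ▸ add_mem (hprod _ (hK1R _ x.2) _ hsR hxs.eq)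
    (hprod _ (hK1R _ z.2) _ hdR hzd.eq)
  have hrr : r * r = 1 := by
    have e1 : (x : Q) * s * ((x : Q) * s) = s * s * ((x : Q) * x) := by
      rw [hxs.symm.mul_mul_mul_comm]
      exact ((hxs.mul_left hxs).mul_right (hxs.mul_left hxs)).eq
    have e2 : (z : Q) * d * ((z : Q) * d) = d * d * ((z : Q) * z) := by
      rw [hzd.symm.mul_mul_mul_comm]
      exact ((hzd.mul_left hzd).mul_right (hzd.mul_left hzd)).eq
    have e3 : (x : Q) * s * ((z : Q) * d) + (z : Q) * d * ((x : Q) * s) = 0 := by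
      rw [hzs.symm.mul_mul_mul_comm, hxd.symm.mul_mul_mul_comm, ← hxz', hanti, mul_neg, add_neg_cancel]
    rw [hr, mul_add, add_mul, add_mul, e1, e2, ← hq]
    linear_combination (norm := abel) e3
  have hfac : (r - 1) * (r + 1) = 0 := by
    rw [sub_mul, mul_add, mul_one, hrr, one_mul]
    abel
  have hr1 : r = 1 ∨ r = -1 := by
    by_cases h : r - 1 = 0
    · exact Or.inl (sub_eq_zero.1 h)
    · exact Or.inr (eq_neg_of_add_eq_zero_left ((hu _ (sub_mem hrR h1) h).mul_right_eq_zero.1 hfac))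
  have hrs : Commute r s ∧ Commute r d := by
    rcases hr1 with e | e <;> rw [e]
    · exact ⟨Commute.one_left s, Commute.one_left d⟩
    · exact ⟨(Commute.one_left s).neg_left, (Commute.one_left d).neg_left⟩
  have hkill : ∀ w : K1, (w : Q) * (d * s) = (w : Q) * (s * d) → w = 0 := by
    intro w hw
    rw [hanti, mul_neg, eq_comm, eq_neg_iff_add_eq_zero, ← two_smul k, smul_eq_zero] at hw
    exact Subtype.ext ((hsu.mul hdu).mul_left_eq_zero.1 (hw.resolve_left h2))
  have hz0 : z = 0 := hkill z (by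
    have e := hrs.1.eq
    rw [hr, add_mul, mul_add, mul_assoc (z : Q), mul_assoc (x : Q), ← mul_assoc s (x : Q),
      ← hxs.eq, mul_assoc (x : Q), ← mul_assoc s (z : Q), ← hzs.eq, mul_assoc (z : Q)] at e
    exact add_left_cancel e)
  have hx0 : x = 0 := hkill x (by
    have e := hrs.2.eq
    rw [hr, add_mul, mul_add, mul_assoc (x : Q), mul_assoc (z : Q), ← mul_assoc d (z : Q),
      ← hzd.eq, mul_assoc (z : Q), ← mul_assoc d (x : Q), ← hxd.eq, mul_assoc (x : Q)] at e
    exact (add_right_cancel e).symm)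
  rw [hx0, hz0] at hq
  simp at hq

end CfsgLib.QuadFix
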