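import Cfsg.Agent.QuadPairs.Components
import Cfsg.Agent.QuadFix.SquareCount
import Cfsg.Agent.Solvable.Glauberman

/-!
The stabiliser of a root group inside its component moves a non-zero root to at least half of the others,
so an odd-order coprime solvable group of operators fixes one.
-/

set_option autoImplicit false
set_option linter.unusedSectionVars false
set_option linter.deprecated false
set_option linter.style.haveILetI false
set_option linter.unusedSimpArgs false

universe u v

namespace CfsgLib.QuadFix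

open Cfsg CfsgLib.QP

variable {k : Type u} [Field k] {M : Type v} [AddCommGroup M] [Module k M]

/-- Conjugation of endomorphisms as an action. -/
@[implicit_reducible]
def endAction : MulAction (LinearMap.GeneralLinearGroup k M) (Module.End k M) where
  smul g N := conjEnd g N
  one_smul N := conjEnd_one N
  mul_smul g h N := (conjEnd_conjEnd g h N).symm

theorem absorb {x x' A : Module.End k M} (h : x * x' * x = x)
    (hk : LinearMap.ker x ≤ LinearMap.ker A) (hr : LinearMap.range A ≤ LinearMap.range x) :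
    x * (x' * A) = A ∧ A * (x' * x) = A := by
  constructor
  · ext m
    obtain ⟨u, hu⟩ := hr ⟨m, rfl⟩
    show x (x' (A m)) = A m
    rw [← hu]
    exact LinearMap.congr_fun h u
  · ext m
    have hm : (x' * x) m - m ∈ LinearMap.ker x := by
      rw [LinearMap.mem_ker, map_sub, sub_eq_zero]
      exact LinearMap.congr_fun h m
    have h0 := LinearMap.mem_ker.1 (hk hm)
    rwa [map_sub, sub_eq_zero] at h0

/-- The Weyl element of a normalised opposite pair. -/
def weyl {x x' : Module.End k M} (hx : x * x = 0) (hx' : x' * x' = 0) : LinearMap.GeneralLinearGroup k M :=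
  fam hx (1 : k) * fam hx' (-1 : k) * fam hx (1 : k)

theorem weyl_val {x x' : Module.End k M} (hx : x * x = 0) (hx' : x' * x' = 0) :
    (weyl (k := k) hx hx' : Module.End k M) = (1 + x) * (1 - x') * (1 + x) := by
  rw [weyl, Units.val_mul, Units.val_mul, fam_val, fam_val, one_smul, neg_smul, one_smul, ← sub_eq_add_neg]

theorem conjEnd_eq_of_mul {g : LinearMap.GeneralLinearGroup k M} {A C : Module.End k M}
    (h : (g : Module.End k M) * A = C * (g : Module.End k M)) : conjEnd g A = C := by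
  rw [conjEnd, h, mul_assoc, Units.mul_inv, mul_one]

theorem weyl_conj {x x' A : Module.End k M} (hx : x * x = 0) (hx' : x' * x' = 0)
    (hA : x * (x' * A) = A) (hA' : A * (x' * x) = A) : conjEnd (weyl (k := k) hx hx') A = -(x' * A * x') := by
  apply conjEnd_eq_of_mul
  rw [weyl_val]
  have e1 : x * A = 0 := by rw [← hA, ← mul_assoc, hx, zero_mul]
  have e1' : A * x = 0 := by rw [← hA', mul_assoc A, mul_assoc x', hx, mul_zero, mul_zero]
  have e3 : ∀ w, A * (x' * (x * w)) = A * w := fun w => by rw [← mul_assoc x', ← mul_assoc, hA']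
  have e4 : ∀ w, x' * (x' * w) = 0 := fun w => by rw [← mul_assoc, hx', zero_mul]
  simp only [add_mul, mul_add, mul_sub, sub_mul, one_mul, mul_one, neg_mul, mul_assoc, e1, e1', hA, hA', e3,
    e4, hx', mul_zero, zero_mul]
  abel

theorem weyl_conj' {x x' B : Module.End k M} (hx : x * x = 0) (hx' : x' * x' = 0)
    (hB : x' * (x * B) = B) (hB' : B * (x * x') = B) : conjEnd (weyl (k := k) hx hx') B = -(x * B * x) := by
  apply conjEnd_eq_of_mul
  rw [weyl_val]
  have e1 : x' * B = 0 := by rw [← hB, ← mul_assoc, hx', zero_mul]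
  have e2 : ∀ w, B * (x * (x' * w)) = B * w := fun w => by rw [← mul_assoc x, ← mul_assoc, hB']
  have e3 : ∀ w, x * (x * w) = 0 := fun w => by rw [← mul_assoc, hx, zero_mul]
  simp only [add_mul, mul_add, mul_sub, sub_mul, one_mul, mul_one, neg_mul, mul_assoc, e1, hB, hB', e2,
    e3, hx, mul_zero, zero_mul]
  abel

variable [FiniteDimensional k M] [Finite k] {H : Subgroup (LinearMap.GeneralLinearGroup k M)}
  {S₀ S T : Module.End k M}

instance finite_end : Finite (Module.End k M) := by
  have : Finite M := Module.finite_of_finite k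
  exact Finite.of_injective (fun f => (f : M → M)) DFunLike.coe_injective

instance finite_gl : Finite (LinearMap.GeneralLinearGroup k M) := by
  exact inferInstanceAs (Finite (Module.End k M)ˣ)

/-- The elements of the general linear group mapping a space of endomorphisms to itself. -/
noncomputable def rootStab (V : Submodule k (Module.End k M)) : Subgroup (LinearMap.GeneralLinearGroup k M) :=
  { carrier := {g | ∀ z ∈ V, conjEnd g z ∈ V}
    one_mem' := fun z hz => by rwa [conjEnd_one]
    mul_mem' := fun {g h} hg hh z hz => by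
      rw [← conjEnd_conjEnd]; exact hg _ (hh z hz)
    inv_mem' := fun {g} hg => by
      have hp : ∀ n : ℕ, ∀ z ∈ V, conjEnd (g ^ n) z ∈ V := by
        intro n
        induction n with
        | zero => intro z hz; rwa [pow_zero, conjEnd_one]
        | succ n ih => intro z hz; rw [pow_succ, ← conjEnd_conjEnd]; exact ih _ (hg z hz)
      have e : g⁻¹ = g ^ (orderOf g - 1) := by
        apply inv_eq_of_mul_eq_one_left
        rw [← pow_succ, Nat.sub_add_cancel (orderOf_pos g), pow_orderOf_eq_one]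
      intro z hz
      rw [e]; exact hp _ z hz }

theorem mem_rootStab {V : Submodule k (Module.End k M)} {g : LinearMap.GeneralLinearGroup k M} :
    g ∈ rootStab V ↔ ∀ z ∈ V, conjEnd g z ∈ V := Iff.rfl

variable (h2 : (2 : k) ≠ 0) (h3 : Nat.card k ≠ 3) (hopp : HasOpposites H)
include h2 h3

theorem sq_mem {y y' x : Module.End k M} (hy : IsMinRoot H y) (hy' : IsMinRoot H y')
    (hx : x ∈ rootSpace H hy.sq) : x * y' * x ∈ rootSpace H hy.sq := by
  by_cases hx0 : x = 0
  · rw [hx0, mul_zero]; exact zero_mem _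
  obtain ⟨hxm, hk, hr⟩ := hy.of_mem_rootSpace hx hx0
  rw [← rootSpace_eq (hS := hy.sq) (hT := hxm.sq) hk hr]
  exact sandwich_mem hxm h2 h3 hy'.sq hy'.fam

include hopp

theorem exists_conj_sq {y y' x : Module.End k M} (hy : IsMinRoot H y) (hy' : IsMinRoot H y')
    (hc : Conn H S₀ y) (h1 : y * y' * y = y) (h1' : y' * y * y' = y')
    (hx : x ∈ rootSpace H hy.sq) (hx0 : x ≠ 0) :
    ∃ n ∈ comp H S₀ ⊓ rootStab (rootSpace H hy.sq), conjEnd n y = x * y' * x := by
  obtain ⟨hxm, hxk, hxr⟩ := hy.of_mem_rootSpace hx hx0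
  have hyy : y * y' * y ≠ 0 := h1.symm ▸ hy.ne
  have hxy : x * y' * x ≠ 0 :=
    opposite_of_mem hy hy' h2 h3 hyy hx hx0 (mem_rootSpace_self hy'.toIsRoot) hy'.ne
  obtain ⟨x', hx'm, hx'mem, g1, g1'⟩ := exists_normal_opposite hxm hy' h2 h3 hxy
  obtain ⟨-, hx'k, hx'r⟩ := hy'.of_mem_rootSpace hx'mem hx'm.ne
  have hc' : Conn H S₀ y' := hc.trans (conn_single hy hy' hyy)
  have hcx : Conn H S₀ x := hc.trans (conn_of_mem_rootSpace hy hopp h2 h3 hx hx0)
  have hcx' : Conn H S₀ x' := hc'.trans (conn_of_mem_rootSpace hy' hopp h2 h3 hx'mem hx'm.ne)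
  obtain ⟨n, hn⟩ : ∃ n, n = weyl (k := k) hxm.sq hx'm.sq * weyl (k := k) hy.sq hy'.sq := ⟨_, rfl⟩
  have hact : ∀ z ∈ rootSpace H hy.sq, conjEnd n z = x * (y' * z * y') * x := by
    intro z hz
    obtain ⟨hA, hA'⟩ := absorb h1 hz.1 hz.2.1
    have hB := sandwich_mem hy' h2 h3 (mul_eq_zero_of_mem hz hz) hz.2.2
    obtain ⟨hB1, hB2⟩ := absorb g1' (hx'k.le.trans hB.1) (hB.2.1.trans hx'r.ge)
    rw [hn, ← conjEnd_conjEnd, weyl_conj hy.sq hy'.sq hA hA',
      weyl_conj' hxm.sq hx'm.sq (by rw [mul_neg, mul_neg, hB1]) (by rw [neg_mul, hB2]), mul_neg, neg_mul,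
      neg_neg]
  refine ⟨n, ⟨?_, fun z hz => ?_⟩, by rw [hact y (mem_rootSpace_self hy.toIsRoot), h1']⟩
  · rw [hn, weyl, weyl]
    exact mul_mem (mul_mem (mul_mem (mem_comp_of_conn hxm hcx (fam_val _ _))
      (mem_comp_of_conn hx'm hcx' (fam_val _ _))) (mem_comp_of_conn hxm hcx (fam_val _ _)))
      (mul_mem (mul_mem (mem_comp_of_conn hy hc (fam_val _ _))
      (mem_comp_of_conn hy' hc' (fam_val _ _))) (mem_comp_of_conn hy hc (fam_val _ _)))
  · have hB := sandwich_mem hy' h2 h3 (mul_eq_zero_of_mem hz hz) hz.2.2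
    rw [hact z hz, ← rootSpace_eq (hS := hy.sq) (hT := hxm.sq) hxk hxr]
    exact sandwich_mem hxm h2 h3 (mul_eq_zero_of_mem hB hB) hB.2.2

theorem fibre_pm {y y' x x₁ : Module.End k M} (hy : IsMinRoot H y) (hy' : IsMinRoot H y')
    (h1 : y * y' * y = y) (hx : x ∈ rootSpace H hy.sq) (hx₁ : x₁ ∈ rootSpace H hy.sq)
    (h : x * y' * x = x₁ * y' * x₁) : x = x₁ ∨ x = -x₁ := by
  let U : Submodule k M := LinearMap.range y
  let V := rootSpace H hy.sq
  let ψ : V →ₗ[k] Module.End k U :=
    { toFun := fun z => LinearMap.codRestrict U (((z : Module.End k M) * y').domRestrict U)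
        (fun u => z.2.2.1 ⟨_, rfl⟩)
      map_add' := fun a b => by
        apply LinearMap.ext; intro u; apply Subtype.ext
        simp
      map_smul' := fun c a => by
        apply LinearMap.ext; intro u; apply Subtype.ext
        simp }
  have hψ : ∀ (z : V) (u : U), (ψ z u : M) = (z : Module.End k M) (y' u) := fun z u => rfl
  have hinj : Function.Injective ψ := by
    rw [← LinearMap.ker_eq_bot, Submodule.eq_bot_iff]
    intro z hz
    apply Subtype.ext
    ext m
    obtain ⟨-, hA'⟩ := absorb h1 z.2.1 z.2.2.1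
    have e := congrArg (fun f : Module.End k U => (f ⟨y m, m, rfl⟩ : M)) (LinearMap.mem_ker.1 hz)
    simp only [hψ, LinearMap.zero_apply, ZeroMemClass.coe_zero] at e
    rw [ZeroMemClass.coe_zero, LinearMap.zero_apply, ← hA']
    exact e
  have hfin : Finite M := Module.finite_of_finite k
  have key := eq_or_eq_neg_of_sq (k := k) h2 (LinearMap.range ψ)
    ⟨⟨y, mem_rootSpace_self hy.toIsRoot⟩, by
      apply LinearMap.ext; rintro ⟨u, m, rfl⟩; apply Subtype.ext
      exact LinearMap.congr_fun h1 m⟩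
    (by
      rintro _ ⟨z, rfl⟩
      refine ⟨⟨_, sq_mem h2 h3 hy hy' z.2⟩, ?_⟩
      apply LinearMap.ext; intro u; apply Subtype.ext
      rfl)
    (by
      rintro _ ⟨z, rfl⟩ hz0
      have hz : (z : Module.End k M) ≠ 0 := fun e => hz0 (by
        rw [show z = 0 from Subtype.ext e, map_zero])
      obtain ⟨-, hzk, -⟩ := hy.of_mem_rootSpace z.2 hz
      have hi : Function.Injective (ψ z) := by
        rw [← LinearMap.ker_eq_bot, Submodule.eq_bot_iff]
        rintro ⟨u, m, rfl⟩ hu
        apply Subtype.ext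
        have e : (z : Module.End k M) (y' (y m)) = 0 := congrArg Subtype.val (LinearMap.mem_ker.1 hu)
        rw [← LinearMap.mem_ker, hzk, LinearMap.mem_ker] at e
        rw [ZeroMemClass.coe_zero]
        exact (LinearMap.congr_fun h1 m).symm.trans e
      exact (Module.End.isUnit_iff _).2 ⟨hi, LinearMap.surjective_of_injective hi⟩)
    (a := ψ ⟨x, hx⟩) (b := ψ ⟨x₁, hx₁⟩) ⟨_, rfl⟩ ⟨_, rfl⟩ (by
      apply LinearMap.ext; intro u; apply Subtype.ext
      exact LinearMap.congr_fun h (y' u))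
  rcases key with e | e
  · exact Or.inl (congrArg Subtype.val (hinj e))
  · exact Or.inr (congrArg Subtype.val (hinj (e.trans (map_neg ψ _).symm)))

theorem orbit_card_ge {y y' : Module.End k M} (hy : IsMinRoot H y) (hy' : IsMinRoot H y')
    (hc : Conn H S₀ y) (h1 : y * y' * y = y) (h1' : y' * y * y' = y') :
    {z : Module.End k M | z ∈ rootSpace H hy.sq ∧ z ≠ 0}.ncard ≤
      2 * {z : Module.End k M | ∃ n ∈ comp H S₀ ⊓ rootStab (rootSpace H hy.sq), conjEnd n y = z}.ncard := by
  classical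
  have : Finite M := Module.finite_of_finite k
  let _ := Fintype.ofFinite (Module.End k M)
  rw [Set.ncard_eq_toFinset_card', Set.ncard_eq_toFinset_card']
  refine le_trans (Finset.card_le_mul_card_image (f := fun x => x * y' * x) _ 2 ?_)
    (Nat.mul_le_mul_left 2 (Finset.card_le_card ?_))
  · intro a ha
    obtain ⟨x₀, hx₀, rfl⟩ := Finset.mem_image.1 ha
    simp only [Set.mem_toFinset, Set.mem_ofPred_eq] at hx₀
    refine le_trans (Finset.card_le_card (t := {x₀, -x₀}) fun x hx => ?_) Finset.card_le_two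
    simp only [Finset.mem_filter, Set.mem_toFinset, Set.mem_ofPred_eq] at hx
    rw [Finset.mem_insert, Finset.mem_singleton]
    exact fibre_pm h2 h3 hopp hy hy' h1 hx.1.1 hx₀.1 hx.2
  · intro a ha
    obtain ⟨x, hx, rfl⟩ := Finset.mem_image.1 ha
    simp only [Set.mem_toFinset, Set.mem_ofPred_eq] at hx ⊢
    exact exists_conj_sq h2 h3 hopp hy hy' hc h1 h1' hx.1 hx.2

/-- An odd coprime solvable group of operators on a root space fixes a root. -/
theorem exists_fixed_root (hS : IsMinRoot H S) (hT : IsMinRoot H T) (hne : S * T * S ≠ 0)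
    (hc : Conn H S₀ S) {A : Subgroup (LinearMap.GeneralLinearGroup k M)}
    (hA : A ≤ Subgroup.normalizer (comp H S₀ : Set (LinearMap.GeneralLinearGroup k M)))
    (hAV : A ≤ rootStab (rootSpace H hS.sq)) (hodd : Odd (Nat.card A)) (hsol : Group.IsSolvable A)
    (hcop : (Nat.card A).Coprime (Nat.card (comp H S₀))) :
    ∃ U ∈ rootSpace H hS.sq, U ≠ 0 ∧ ∀ a ∈ A, conjEnd a U = U := by
  classical
  have : Finite M := Module.finite_of_finite k
  obtain ⟨y', hy', -, h1, h1'⟩ := exists_normal_opposite hS hT h2 h3 hne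
  set V := rootSpace H hS.sq with hV
  set N := comp H S₀ ⊓ rootStab V with hN
  set O := {z : Module.End k M | ∃ n ∈ N, conjEnd n S = z} with hO
  set Vs := {z : Module.End k M | z ∈ V ∧ z ≠ 0} with hVs
  have hOV : O ⊆ Vs := by
    rintro _ ⟨n, hn, rfl⟩
    exact ⟨mem_rootStab.1 hn.2 S (mem_rootSpace_self hS.toIsRoot), fun e => hS.ne (conjEnd_eq_zero e)⟩
  have hAN : A ≤ Subgroup.normalizer (N : Set (LinearMap.GeneralLinearGroup k M)) := by
    intro a ha
    rw [Subgroup.mem_normalizer_iff]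
    intro x
    exact and_congr (Subgroup.mem_normalizer_iff.1 (hA ha) x)
      (Subgroup.mem_normalizer_iff.1 (Subgroup.le_normalizer (hAV ha)) x)
  have hconj : ∀ a ∈ A, ∀ n ∈ N, a * n * a⁻¹ ∈ N := fun a ha n hn =>
    (Subgroup.mem_normalizer_iff.1 (hAN ha) n).1 hn
  have hmap : ∀ a ∈ A, conjEnd a S ∈ O → ∀ z ∈ O, conjEnd a z ∈ O := by
    rintro a ha ⟨m, hm, hma⟩ _ ⟨n, hn, rfl⟩
    refine ⟨a * n * a⁻¹ * m, mul_mem (hconj a ha n hn) hm, ?_⟩
    rw [← conjEnd_conjEnd, hma, conjEnd_conjEnd, conjEnd_conjEnd, inv_mul_cancel_right]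
  have hsq : ∀ a ∈ A, conjEnd (a * a) S ∈ O := by
    intro a ha
    by_cases h : conjEnd a S ∈ O
    · rw [← conjEnd_conjEnd]; exact hmap a ha h _ h
    have hdis : Disjoint O (conjEnd a '' O) := by
      rw [Set.disjoint_left]
      rintro _ ⟨m, hm, rfl⟩ ⟨_, ⟨n, hn, rfl⟩, e⟩
      apply h
      refine ⟨a * n⁻¹ * a⁻¹ * m, mul_mem (hconj a ha _ (inv_mem hn)) hm, ?_⟩
      rw [← conjEnd_conjEnd, ← e, conjEnd_conjEnd, conjEnd_conjEnd]
      congr 1
      group
    have himg : conjEnd a '' O ⊆ Vs := by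
      rintro _ ⟨z, hz, rfl⟩
      exact ⟨mem_rootStab.1 (hAV ha) z (hOV hz).1, fun e => (hOV hz).2 (conjEnd_eq_zero e)⟩
    have hcard : (conjEnd a '' O).ncard = O.ncard := Set.ncard_image_of_injective _ fun z w e => by
      have := congrArg (conjEnd a⁻¹) e
      rwa [conjEnd_conjEnd, conjEnd_conjEnd, inv_mul_cancel, conjEnd_one, conjEnd_one] at this
    have hall : O ∪ conjEnd a '' O = Vs := by
      refine Set.eq_of_subset_of_ncard_le (Set.union_subset hOV himg) ?_ (Set.toFinite _)
      rw [Set.ncard_union_eq hdis (Set.toFinite _) (Set.toFinite _), hcard]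
      have := orbit_card_ge h2 h3 hopp hS hy' hc h1 h1'
      rw [← hV, ← hN, ← hO, ← hVs] at this
      omega
    have hmem : conjEnd (a * a) S ∈ Vs :=
      ⟨mem_rootStab.1 (mul_mem (hAV ha) (hAV ha)) S (mem_rootSpace_self hS.toIsRoot),
        fun e => hS.ne (conjEnd_eq_zero e)⟩
    rw [← hall] at hmem
    rcases hmem with hm | ⟨z, hz, e⟩
    · exact hm
    · exfalso
      apply h
      have := congrArg (conjEnd a⁻¹) e
      rw [conjEnd_conjEnd, conjEnd_conjEnd, inv_mul_cancel, conjEnd_one, inv_mul_cancel_left] at this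
      exact this ▸ hz
  have hO1 : S ∈ O := ⟨1, one_mem N, conjEnd_one S⟩
  have hall : ∀ a ∈ A, ∀ z ∈ O, conjEnd a z ∈ O := by
    intro a ha
    refine hmap a ha ?_
    obtain ⟨j, hj⟩ := hodd
    have e : a = (a * a) ^ (j + 1) := by
      rw [← pow_two, ← pow_mul, show 2 * (j + 1) = 2 * j + 1 + 1 by ring, pow_succ,
        ← hj, orderOf_dvd_iff_pow_eq_one.1 (A.orderOf_dvd_natCard ha), one_mul]
    have hp : ∀ i : ℕ, conjEnd ((a * a) ^ i) S ∈ O := by
      intro i
      induction i with
      | zero => rw [pow_zero, conjEnd_one]; exact hO1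
      | succ i ih =>
        rw [pow_succ', ← conjEnd_conjEnd]
        exact hmap _ (mul_mem ha ha) (hsq a ha) _ ih
    rw [e]; exact hp _
  letI := endAction (k := k) (M := M)
  obtain ⟨U, hU, hfix⟩ := CfsgLib.SZ.exists_fixed hAN
    (hcop.coprime_dvd_right (Subgroup.card_dvd_of_le inf_le_left)) (Or.inl hsol) O ⟨S, hO1⟩ hall
    (by
      rintro _ ⟨m, hm, rfl⟩ _ ⟨n, hn, rfl⟩
      exact ⟨n * m⁻¹, mul_mem hn (inv_mem hm), by
        show conjEnd _ _ = _
        rw [conjEnd_conjEnd, inv_mul_cancel_right]⟩)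
    (by
      rintro m hm _ ⟨n, hn, rfl⟩
      exact ⟨m * n, mul_mem hm hn, (conjEnd_conjEnd m n S).symm⟩)
  exact ⟨U, (hOV hU).1, (hOV hU).2, hfix⟩

end CfsgLib.QuadFix
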